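import Groth.Agent.Krr.H501.DefLift
import Groth.Agent.Krr.H458.SecP1

/-!
# Deformation to the normal bundle

`f : X ⟶ Y` a regular closed immersion of codimension `d`, `b : M ⟶ P^1_Y` the blow-up of `X × ∞`
(`BlowUp.IsBlowUp b (f ≫ sec 1 Y).ker`).

* `exists_F`, `exists_g₀`: the lifts `F : P^1_X ⟶ M`, `g₀ : Y ⟶ M` of `projSpaceMap 1 f` and `sec 0 Y`.
* `isRegular_and_rank_F`: `F` is a regular closed immersion of codimension `d`.
* `isPullback_F_g₀`, `isClosedImmersion_g₀`, `ker_g₀`.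
* `exists_s`: the section of the exceptional divisor given by `F`, regular of codimension `d`.
* `exists_𝓑`: the residual divisor.
* `isRegular_and_rank_center`: the centre `X ⟶ P^1_Y` is regular of codimension `1 + d`.
-/

set_option autoImplicit false
universe u

open CategoryTheory AlgebraicGeometry Limits
open BlowUp

namespace Groth.Agent.Krr.H501.DefP1

open Groth.Agent.Divis Groth.Agent.Divis.IdealComap Groth.Agent.Krr.H458.SecP1
open Groth.Agent.Krr.H501.RegLen Groth.Agent.Krr.H501.LiftReg Groth.Agent.Krr.H501.DefLift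

section Flat

theorem flat_pr (n : ℕ) (Y : Scheme.{u}) : Flat (KRR.pr n Y) := by
  have : Smooth (CohB1.ProjSpace.toSpec n (ULift.{u} ℤ)) :=
    SmoothOfRelativeDimension.smooth n (CohB1.ProjSpace.toSpec n (ULift.{u} ℤ))
  have h1 : Flat (CohB1.ProjSpace.toSpec n (ULift.{u} ℤ)) := inferInstance
  exact MorphismProperty.of_isPullback (IsPullback.of_hasPullback
    (CohB1.ProjSpace.toSpec n (ULift.{u} ℤ)) (specULiftZIsTerminal.from Y)) h1

/-- An effective Cartier ideal is generated by a regular sequence of length `1`. -/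
theorem regAtLen_of_isEff {X : Scheme.{u}} {I : X.IdealSheafData} (hI : IsEffCartierIdeal I) (x : X) :
    RegAtLen I 1 x := by
  obtain ⟨U, hx, a, ha, hU⟩ := hI x
  refine ⟨U, hx, [a], ?_, rfl, ?_⟩
  · rw [RingTheory.Sequence.isWeaklyRegular_singleton_iff, isSMulRegular_iff_right_eq_zero_of_smul]
    intro y hy
    rw [mem_nonZeroDivisors_iff_left] at ha
    exact ha y hy
  · rw [Ideal.ofList_singleton, hU]

/-- A closed immersion with effective Cartier ideal is regular of codimension `1`. -/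
theorem isRegular_and_rank_of_isEff {X Y : Scheme.{u}} (i : X ⟶ Y) [IsClosedImmersion i]
    (h : IsEffCartierIdeal i.ker) :
    Mor2.IsRegularClosedImmersion i ∧ FlatMod.IsFinLocFreeOfRank 1 (Omega.conormal i) := by
  rw [isRegular_and_rank_iff]
  exact fun z => regAtLen_of_isEff h _

theorem isRegular_and_rank_sec (i : Fin 2) (Y : Scheme.{u}) :
    Mor2.IsRegularClosedImmersion (sec i Y) ∧ FlatMod.IsFinLocFreeOfRank 1 (Omega.conormal (sec i Y)) :=
  isRegular_and_rank_of_isEff _ (isEff_idl i Y)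

theorem isRegular_and_rank_projSpaceMap (n : ℕ) {X Y : Scheme.{u}} (f : X ⟶ Y) {d : ℕ}
    (hf : Mor2.IsRegularClosedImmersion f) (hd : FlatMod.IsFinLocFreeOfRank d (Omega.conormal f)) :
    Mor2.IsRegularClosedImmersion (KRR.projSpaceMap n f) ∧
      FlatMod.IsFinLocFreeOfRank d (Omega.conormal (KRR.projSpaceMap n f)) := by
  have := flat_pr n Y
  exact isRegular_and_rank_of_isPullback (isPullback_projSpaceMap f n) hf hd

/-- The centre is a regular closed immersion of codimension `1 + d`. -/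
theorem isRegular_and_rank_center (i : Fin 2) {X Y : Scheme.{u}} (f : X ⟶ Y) {d : ℕ}
    (hf : Mor2.IsRegularClosedImmersion f) (hd : FlatMod.IsFinLocFreeOfRank d (Omega.conormal f)) :
    Mor2.IsRegularClosedImmersion (f ≫ sec i Y) ∧
      FlatMod.IsFinLocFreeOfRank (1 + d) (Omega.conormal (f ≫ sec i Y)) :=
  isRegular_and_rank_comp f (sec i Y) hf hd (isRegular_and_rank_sec i Y).1 (isRegular_and_rank_sec i Y).2

end Flat

section Main

variable {X Y M : Scheme.{u}} (f : X ⟶ Y) [IsClosedImmersion f]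

/-- The ideal of `X × ∞` in `P^1_Y`. -/
theorem ker_center (i : Fin 2) : (f ≫ sec i Y).ker = (KRR.projSpaceMap 1 f).ker ⊔ idl i Y := by
  rw [← sec_projSpaceMap]
  exact ker_inter (isPullback_sec f i).flip

/-- The centre `X × ∞` does not meet the section `0`. -/
theorem ker_center_comap_sec {i j : Fin 2} (hij : i ≠ j) : (f ≫ sec i Y).ker.comap (sec j Y) = ⊤ := by
  rw [ker_center, eq_top_iff, ← idl_comap_sec Y hij]
  exact Scheme.IdealSheafData.comap_mono _ le_sup_right

omit [IsClosedImmersion f] in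
/-- The ideal of `P^1_X ∩ ∞` is effective Cartier. -/
theorem isEff_idl_comap (i : Fin 2) : IsEffCartierIdeal ((idl i Y).comap (KRR.projSpaceMap 1 f)) := by
  rw [idl_comap_projSpaceMap]
  exact isEff_idl i X

variable {f} {b : M ⟶ KRR.PY 1 Y}

/-- **Deformation to the normal bundle: the lift of `P^1_X`.** -/
theorem exists_F (hb : IsBlowUp b (f ≫ sec 1 Y).ker) :
    ∃ F : KRR.PY 1 X ⟶ M, IsClosedImmersion F ∧ F ≫ b = KRR.projSpaceMap 1 f := by
  rw [ker_center] at hb
  exact exists_lift (isEff_idl_comap f 1) hb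

/-- Every lift of `P^1_X` is a closed immersion. -/
theorem isClosedImmersion_F (hb : IsBlowUp b (f ≫ sec 1 Y).ker) {F : KRR.PY 1 X ⟶ M}
    (hF : F ≫ b = KRR.projSpaceMap 1 f) : IsClosedImmersion F := by
  have := Groth.Agent.Flat2C.BlowProper.isSeparated_of_isBlowUp hb
  have h1 : IsClosedImmersion (F ≫ b) := by rw [hF]; infer_instance
  exact IsClosedImmersion.of_comp F b

/-- **The lift of the section `0`.** -/
theorem exists_g₀ (hb : IsBlowUp b (f ≫ sec 1 Y).ker) : ∃ g₀ : Y ⟶ M, g₀ ≫ b = sec 0 Y :=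
  exists_lift_of_top hb (sec 0 Y) (ker_center_comap_sec f (by decide))

/-- `g₀` is a closed immersion, the inverse image of the section `0`. -/
theorem g₀_prop (hb : IsBlowUp b (f ≫ sec 1 Y).ker) {g₀ : Y ⟶ M} (hg : g₀ ≫ b = sec 0 Y) :
    IsClosedImmersion g₀ ∧ IsPullback g₀ (𝟙 Y) b (sec 0 Y) ∧ g₀.ker = (idl 0 Y).comap b := by
  have h1 : IsClosedImmersion (g₀ ≫ b) := by rw [hg]; infer_instance
  have h2 := ker_lift_of_top (g₀ := g₀) hb (by rw [hg]; exact ker_center_comap_sec f (by decide))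
  rw [hg] at h2
  exact h2

/-- **The fibre square over the section `0`.** -/
theorem isPullback_F_g₀ (hb : IsBlowUp b (f ≫ sec 1 Y).ker) {F : KRR.PY 1 X ⟶ M}
    (hF : F ≫ b = KRR.projSpaceMap 1 f) {g₀ : Y ⟶ M} (hg : g₀ ≫ b = sec 0 Y) :
    IsPullback f (sec 0 X) g₀ F := by
  refine isPullback_lift hb ?_ ?_
  · rw [hF, hg]; exact isPullback_sec f 0
  · rw [hg]; exact ker_center_comap_sec f (by decide)

omit [IsClosedImmersion f] in
/-- **`F` is a regular closed immersion of codimension `d`.** -/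
theorem isRegular_and_rank_F [IsLocallyNoetherian (KRR.PY 1 Y)] {d : ℕ} (hf : Mor2.IsRegularClosedImmersion f)
    (hd : FlatMod.IsFinLocFreeOfRank d (Omega.conormal f)) (hb : IsBlowUp b (f ≫ sec 1 Y).ker)
    {F : KRR.PY 1 X ⟶ M} (hF : F ≫ b = KRR.projSpaceMap 1 f) :
    Mor2.IsRegularClosedImmersion F ∧ FlatMod.IsFinLocFreeOfRank d (Omega.conormal F) := by
  have := hf.1
  have := isClosedImmersion_F hb hF
  rw [ker_center] at hb
  obtain ⟨h1, h2⟩ := isRegular_and_rank_projSpaceMap 1 f hf hd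
  exact isRegular_and_rank_lift h1 h2 (isEff_idl 1 Y) (isEff_idl_comap f 1) hb hF

omit [IsClosedImmersion f] in
/-- **The section of the exceptional divisor.** -/
theorem exists_s [IsLocallyNoetherian (KRR.PY 1 Y)] {d : ℕ} (hf : Mor2.IsRegularClosedImmersion f)
    (hd : FlatMod.IsFinLocFreeOfRank d (Omega.conormal f)) (hb : IsBlowUp b (f ≫ sec 1 Y).ker)
    {F : KRR.PY 1 X ⟶ M} (hF : F ≫ b = KRR.projSpaceMap 1 f) {E : Scheme.{u}} {iE : E ⟶ M} {ψE : E ⟶ X}
    (hE : IsPullback iE ψE b (f ≫ sec 1 Y)) :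
    ∃ s : X ⟶ E, s ≫ ψE = 𝟙 X ∧ s ≫ iE = sec 1 X ≫ F ∧ IsPullback s (sec 1 X) iE F ∧
      Mor2.IsRegularClosedImmersion s ∧ FlatMod.IsFinLocFreeOfRank d (Omega.conormal s) := by
  have := hf.1
  have := isClosedImmersion_F hb hF
  have hE' : IsPullback iE ψE b (sec 1 X ≫ KRR.projSpaceMap 1 f) := by
    rw [sec_projSpaceMap]; exact hE
  obtain ⟨s, h1, h2, h3⟩ := exists_section hF hE'
  have hiE : IsClosedImmersion iE := MorphismProperty.of_isPullback hE.flip inferInstance
  have hk : iE.ker = (f ≫ sec 1 Y).ker.comap b := ker_of_isPullback hE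
  rw [ker_center] at hb hk
  obtain ⟨h4, h5⟩ := isRegular_and_rank_projSpaceMap 1 f hf hd
  obtain ⟨h6, h7⟩ := isRegular_and_rank_exceptional h4 h5 (isEff_idl 1 Y) (isEff_idl_comap f 1) hb hF hk h3
  exact ⟨s, h1, h2, h3, h6, h7⟩

/-- **The residual divisor** (`D3`). -/
theorem exists_𝓑 [IsLocallyNoetherian (KRR.PY 1 Y)] (hb : IsBlowUp b (f ≫ sec 1 Y).ker) :
    ∃ 𝓑 : M.IdealSheafData, IsEffCartierIdeal 𝓑 ∧ 𝓑 * (f ≫ sec 1 Y).ker.comap b = (idl 1 Y).comap b ∧
      ∀ F : KRR.PY 1 X ⟶ M, F ≫ b = KRR.projSpaceMap 1 f → 𝓑.comap F = ⊤ := by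
  rw [ker_center] at hb ⊢
  exact exists_residual (isEff_idl 1 Y) (isEff_idl_comap f 1) hb

end Main

end Groth.Agent.Krr.H501.DefP1
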