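import Groth.Agent.Divis.RegStalk
import Groth.Agent.Sga67.SymPowSeq
import Groth.Agent.Sga67.KosConormal

/-!
# Regular closed immersions of a given codimension

* `RegAtLen I d x`: near `x` the ideal sheaf `I` is generated, on an affine open, by a weakly regular sequence of
  length `d`.
* `isRegular_and_rank_iff`: a closed immersion `i` is regular with conormal module of rank `d` iff
  `RegAtLen i.ker d (i z)` for all `z`.
* flat pull-back (`RegAtLen.comap`, `isRegular_and_rank_of_isPullback`), composition (`RegAtLen.comp`,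
  `isRegular_and_rank_comp`: codimensions add up), stalk criterion (`regAtLen_iff_stalk`).
-/

set_option autoImplicit false
universe u

open CategoryTheory AlgebraicGeometry Limits
open RingTheory.Sequence

namespace Groth.Agent.Krr.H501.RegLen

open Groth.Agent.Divis.IdealComap Groth.Agent.Divis.RegImm Groth.Agent.Divis.RegStalk

variable {X Y Z : Scheme.{u}}

/-- Near `x` the ideal sheaf `I` is generated, on an affine open, by a weakly regular sequence of length `d`. -/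
def RegAtLen (I : X.IdealSheafData) (d : ℕ) (x : X) : Prop :=
  ∃ U : X.affineOpens, x ∈ U.1 ∧ ∃ rs : List Γ(X, U.1), IsWeaklyRegular Γ(X, U.1) rs ∧ rs.length = d ∧
    I.ideal U = Ideal.ofList rs

lemma RegAtLen.regAt {I : X.IdealSheafData} {d : ℕ} {x : X} (h : RegAtLen I d x) : RegAt I x := by
  obtain ⟨U, hx, rs, hrs, -, hI⟩ := h
  exact ⟨U, hx, rs, hrs, hI⟩

lemma RegAt.exists_len {I : X.IdealSheafData} {x : X} (h : RegAt I x) : ∃ d, RegAtLen I d x := by
  obtain ⟨U, hx, rs, hrs, hI⟩ := h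
  exact ⟨rs.length, U, hx, rs, hrs, rfl, hI⟩

/-- Restriction to a smaller affine open. -/
lemma RegAtLen.exists_le {I : X.IdealSheafData} {d : ℕ} {x : X} (h : RegAtLen I d x) (W : X.Opens) (hW : x ∈ W) :
    ∃ U : X.affineOpens, x ∈ U.1 ∧ U.1 ≤ W ∧ ∃ rs : List Γ(X, U.1), IsWeaklyRegular Γ(X, U.1) rs ∧
      rs.length = d ∧ I.ideal U = Ideal.ofList rs := by
  obtain ⟨U, hxU, rs, hrs, hl, hI⟩ := h
  obtain ⟨V, hV, hxV, hVW⟩ := exists_isAffineOpen_mem_and_subset (U := W ⊓ U.1) (x := x) ⟨hW, hxU⟩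
  have hVU : V ≤ U.1 := fun _ h ↦ (hVW h).2
  refine ⟨⟨V, hV⟩, hxV, fun _ h ↦ (hVW h).1, rs.map (X.presheaf.map (homOfLE hVU).op).hom,
    isWeaklyRegular_map_of_flat _ (flat_res U.2 hV hVU) hrs, by rw [List.length_map, hl], ?_⟩
  rw [← I.map_ideal (U := ⟨V, hV⟩) (V := U) hVU, hI, Ideal.map_ofList]
  rfl

/-- Restriction of generators to a given smaller affine open. -/
lemma exists_of_le {I : X.IdealSheafData} {U V : X.affineOpens} (hVU : V.1 ≤ U.1) {rs : List Γ(X, U.1)}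
    (hrs : IsWeaklyRegular Γ(X, U.1) rs) (hI : I.ideal U = Ideal.ofList rs) :
    IsWeaklyRegular Γ(X, V.1) (rs.map (X.presheaf.map (homOfLE hVU).op).hom) ∧
      I.ideal V = Ideal.ofList (rs.map (X.presheaf.map (homOfLE hVU).op).hom) := by
  refine ⟨isWeaklyRegular_map_of_flat _ (flat_res U.2 V.2 hVU) hrs, ?_⟩
  rw [← I.map_ideal (U := V) (V := U) hVU, hI, Ideal.map_ofList]
  rfl

/-- Flat pull-back. -/
theorem RegAtLen.comap {I : Y.IdealSheafData} {d : ℕ} (f : X ⟶ Y) [Flat f] {x : X} (h : RegAtLen I d (f x)) :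
    RegAtLen (I.comap f) d x := by
  obtain ⟨U, hxU, rs, hrs, hl, hI⟩ := h
  obtain ⟨V, hV, hxV, hVU⟩ := exists_isAffineOpen_mem_and_subset (U := f ⁻¹ᵁ U.1) (x := x) hxU
  refine ⟨⟨V, hV⟩, hxV, rs.map (f.appLE U.1 V hVU).hom,
    isWeaklyRegular_map_of_flat _ (Scheme.Hom.flat_appLE f U.2 hV hVU) hrs, by rw [List.length_map, hl], ?_⟩
  rw [ideal_comap I f U ⟨V, hV⟩ hVU, hI, Ideal.map_ofList]

/-- For open immersions, `RegAtLen` can be tested upstairs. -/
theorem regAtLen_comap_iff_of_isOpenImmersion {I : Y.IdealSheafData} {d : ℕ} (f : X ⟶ Y) [IsOpenImmersion f]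
    {x : X} : RegAtLen (I.comap f) d x ↔ RegAtLen I d (f x) := by
  refine ⟨fun ⟨V, hxV, rs, hrs, hl, hI⟩ ↦ ?_, fun h ↦ h.comap f⟩
  refine ⟨⟨f ''ᵁ V.1, V.2.image_of_isOpenImmersion f⟩, ⟨x, hxV, rfl⟩,
    rs.map (f.appIso V.1).inv.hom, ?_, by rw [List.length_map, hl], ?_⟩
  · exact isWeaklyRegular_map_of_flat _ (RingHom.Flat.of_bijective
      (ConcreteCategory.bijective_of_isIso (f.appIso V.1).inv)) hrs
  · have h1 := ideal_comap_of_isOpenImmersion I f ⟨f ''ᵁ V.1, V.2.image_of_isOpenImmersion f⟩ V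
      (f.preimage_image_eq V.1).ge
    rw [hI, ← Scheme.Hom.appIso_hom'] at h1
    have h2 := congr(Ideal.map (f.appIso V.1).inv.hom $h1)
    rw [Ideal.map_map, ← CommRingCat.hom_comp, Iso.hom_inv_id, Ideal.map_ofList] at h2
    rw [h2]
    exact (Ideal.map_id _).symm

/-- Regular with conormal module of rank `d` iff locally generated by weakly regular sequences of length `d`. -/
theorem isRegular_and_rank_iff (i : Z ⟶ X) [IsClosedImmersion i] (d : ℕ) :
    (Mor2.IsRegularClosedImmersion i ∧ FlatMod.IsFinLocFreeOfRank d (Omega.conormal i)) ↔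
      ∀ z : Z, RegAtLen i.ker d (i z) := by
  constructor
  · rintro ⟨h, hr⟩ z
    obtain ⟨U, hU, hz, rs, hrs, hI⟩ := h.2 z
    refine ⟨⟨U, hU⟩, hz, rs, hrs.toIsWeaklyRegular, ?_, hI⟩
    exact Groth.Agent.Sga67.SymPowSeq.length_eq i hr U hU rs hrs.toIsWeaklyRegular hI z hz
  · intro h
    refine ⟨(isRegularClosedImmersion_iff i).mpr ⟨inferInstance, fun z => (h z).regAt⟩, fun z => ?_⟩
    obtain ⟨U, hz, rs, hrs, hl, hI⟩ := h z
    let c : Groth.Agent.Sga67.KosImm.Chart i := ⟨U.1, U.2, rs, hrs, hI⟩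
    have hb := Groth.Agent.Sga67.KosConormal.isLocBasis_fN c
    have hl' : c.l.length = d := hl
    exact ⟨c.V, hz, Groth.Agent.Sga67.LocBasis.nonempty_restrict_iso_iff.mpr
      ⟨_, hb.reindex (finCongr hl'.symm)⟩⟩

/-- Flat base change of regular closed immersions of codimension `d`. -/
theorem isRegular_and_rank_of_isPullback {X' Z' : Scheme.{u}} {g : X' ⟶ X} {i : Z ⟶ X} {i' : Z' ⟶ X'}
    {g' : Z' ⟶ Z} (h : IsPullback i' g' g i) [Flat g] {d : ℕ} (hi : Mor2.IsRegularClosedImmersion i)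
    (hd : FlatMod.IsFinLocFreeOfRank d (Omega.conormal i)) :
    Mor2.IsRegularClosedImmersion i' ∧ FlatMod.IsFinLocFreeOfRank d (Omega.conormal i') := by
  have := hi.1
  have : IsClosedImmersion i' := MorphismProperty.of_isPullback h.flip inferInstance
  rw [isRegular_and_rank_iff]
  have h1 := (isRegular_and_rank_iff i d).1 ⟨hi, hd⟩
  intro z
  have hk : i'.ker = i.ker.comap g := by
    have h1 : h.isoPullback.hom ≫ pullback.fst g i = i' := by simp
    rw [← h1, Scheme.Hom.ker_comp_of_isIso, Scheme.IdealSheafData.ker_fst_of_isClosedImmersion]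
  rw [hk]
  apply RegAtLen.comap
  rw [← Scheme.Hom.comp_apply, h.w, Scheme.Hom.comp_apply]
  exact h1 _

/-- Composition: the codimensions add up. -/
theorem RegAtLen.comp (i : Z ⟶ Y) (j : Y ⟶ X) [IsClosedImmersion i] [IsClosedImmersion j] {z : Z} {d e : ℕ}
    (hi : RegAtLen i.ker d (i z)) (hj : RegAtLen j.ker e (j (i z))) :
    RegAtLen (i ≫ j).ker (e + d) ((i ≫ j) z) := by
  obtain ⟨V, hzV, ss₀, hss₀, hl₀, hJ₀⟩ := hi
  obtain ⟨W, hW⟩ : ∃ W : X.Opens, j ⁻¹ᵁ W = V.1 := by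
    obtain ⟨W, hW, hWV⟩ := j.isClosedEmbedding.isInducing.isOpen_iff.mp V.1.2
    exact ⟨⟨W, hW⟩, TopologicalSpace.Opens.ext hWV⟩
  obtain ⟨U, hxU, hUW, rs, hrs, hl, hI⟩ := hj.exists_le W (by
    change i z ∈ j ⁻¹ᵁ W
    rw [hW]; exact hzV)
  obtain ⟨hss, hJ⟩ := exists_of_le (V := ⟨j ⁻¹ᵁ U.1, U.2.preimage j⟩)
    (by rw [← hW]; exact fun x hx ↦ hUW hx) hss₀ hJ₀
  have hsurj : Function.Surjective (j.app U.1).hom := by
    exact j.app_surjective U.1 U.2
  obtain ⟨ts, hts⟩ := exists_lift_list _ hsurj (ss₀.map (Y.presheaf.map (homOfLE (show j ⁻¹ᵁ U.1 ≤ V.1 by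
    rw [← hW]; exact fun x hx ↦ hUW hx)).op).hom)
  rw [← hts] at hss hJ
  have hker : RingHom.ker (j.app U.1).hom = Ideal.ofList rs := by rw [← Scheme.Hom.ker_apply, hI]
  refine ⟨U, hxU, rs ++ ts, (isWeaklyRegular_append_of_surjective _ hsurj rs ts hker).mpr ⟨hrs, hss⟩, ?_, ?_⟩
  · have h1 := congrArg List.length hts
    rw [List.length_map, List.length_map] at h1
    rw [List.length_append, hl, h1, hl₀]
  · rw [Scheme.Hom.ker_comp, Scheme.IdealSheafData.ideal_map_of_isAffineHom, hJ,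
      comap_ofList_map_of_surjective _ hsurj rs ts hker]

/-- Composition of regular closed immersions: the codimensions add up. -/
theorem isRegular_and_rank_comp (i : Z ⟶ Y) (j : Y ⟶ X) {d e : ℕ}
    (hi : Mor2.IsRegularClosedImmersion i) (hd : FlatMod.IsFinLocFreeOfRank d (Omega.conormal i))
    (hj : Mor2.IsRegularClosedImmersion j) (he : FlatMod.IsFinLocFreeOfRank e (Omega.conormal j)) :
    Mor2.IsRegularClosedImmersion (i ≫ j) ∧ FlatMod.IsFinLocFreeOfRank (e + d) (Omega.conormal (i ≫ j)) := by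
  have := hi.1
  have := hj.1
  rw [isRegular_and_rank_iff]
  intro z
  exact RegAtLen.comp i j ((isRegular_and_rank_iff i d).1 ⟨hi, hd⟩ z)
    ((isRegular_and_rank_iff j e).1 ⟨hj, he⟩ (i z))

end Groth.Agent.Krr.H501.RegLen
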