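import Groth.Prelude.Def_KRR
import Mathlib.RingTheory.AdjoinRoot
import Mathlib.Tactic.Ring
import Mathlib.Tactic.LinearCombination

/-!
# Algebra of the elementary extension `K_e = K[T]/(p_e)`

* `extPart P e i = Σ_{j ≤ i} (-1)^j λ^j(e) X^{i-j}` : the truncations of `p_e`
  (`extPart P e m = extPoly P e`, `m = ε(e)`).
* `extPoly_monic`, `natDegree_extPoly`.
* `sum_extPart_mul` : `(Σ_{i<r+1} B_i) (X - 1) = B_{r+1} - Σ_{i<r+2} C((-1)^i λ^i(e))`.
* `sum_lam_mul_sigma` : `Σ_{j ≤ i} (-1)^j λ^j(c) σ^{i-j}(c) = δ_{i0}`.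
-/

set_option autoImplicit false

universe v

open Polynomial

namespace Groth.Agent.Krr.H501.ExtPolyAlg

variable {K : Type v} [CommRing K] [LambdaRing.LambdaOps K]

/-- `a_j = (-1)^j λ^j(e)`. -/
noncomputable def ac (e : K) (j : ℕ) : K := (-1 : K) ^ j * LambdaRing.LambdaOps.lam j e

theorem ac_zero (e : K) : ac e 0 = 1 := by
  simp [ac, LambdaRing.LambdaOps.lam_zero]

/-- The partial polynomials `B_i = Σ_{j ≤ i} a_j X^{i-j}`. -/
noncomputable def extPart (e : K) (i : ℕ) : K[X] :=
  ∑ j ∈ Finset.range (i + 1), C (ac e j) * X ^ (i - j)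

theorem extPart_zero (e : K) : extPart e 0 = 1 := by
  simp [extPart, ac_zero]

theorem extPart_succ (e : K) (i : ℕ) :
    extPart e (i + 1) = X * extPart e i + C (ac e (i + 1)) := by
  rw [extPart, Finset.sum_range_succ, extPart, Finset.mul_sum]
  congr 1
  · refine Finset.sum_congr rfl fun j hj => ?_
    have hj' : j ≤ i := Nat.lt_succ_iff.mp (Finset.mem_range.mp hj)
    rw [Nat.succ_sub hj', pow_succ]
    ring
  · simp

theorem extPoly_eq_extPart (P : LambdaRing.PosStructure K) (e : K) :
    KRR.extPoly P e = extPart e (P.aug e).toNat := rfl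

theorem extPart_monic_natDegree [Nontrivial K] (e : K) (i : ℕ) :
    (extPart e i).Monic ∧ (extPart e i).natDegree = i := by
  induction i with
  | zero => rw [extPart_zero]; exact ⟨monic_one, natDegree_one⟩
  | succ i ih =>
    rw [extPart_succ]
    have h1 : (X * extPart e i).Monic := monic_X.mul ih.1
    have h2 : (X * extPart e i).natDegree = i + 1 := by
      rw [monic_X.natDegree_mul ih.1, ih.2, natDegree_X]; ring
    have h3 : (C (ac e (i + 1)) : K[X]).degree < (X * extPart e i).degree := by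
      rw [degree_eq_natDegree h1.ne_zero, h2]
      exact lt_of_le_of_lt degree_C_le (by exact_mod_cast Nat.succ_pos i)
    refine ⟨h1.add_of_left h3, ?_⟩
    rw [natDegree_add_eq_left_of_degree_lt h3, h2]

theorem sum_extPart_mul (e : K) (r : ℕ) :
    (∑ i ∈ Finset.range r, extPart e i) * (X - 1) =
      extPart e r - ∑ i ∈ Finset.range (r + 1), C (ac e i) := by
  induction r with
  | zero => simp [extPart_zero, ac_zero]
  | succ r ih =>
    rw [Finset.sum_range_succ, add_mul, ih, Finset.sum_range_succ _ (r + 1), extPart_succ]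
    ring

/-- `Σ_{j ≤ i} (-1)^j λ^j(c) σ^{i-j}(c) = δ_{i0}`. -/
theorem sum_ac_mul_sigma (c : K) (i : ℕ) :
    ∑ j ∈ Finset.range (i + 1), ac c j * KRR.sigma (i - j) c = if i = 0 then 1 else 0 := by
  have h : PowerSeries.rescale (-1 : K) (LambdaRing.lamSeries c) * KRR.sigmaSeries c = 1 := by
    apply PowerSeries.mul_invOfUnit
    rw [← PowerSeries.coeff_zero_eq_constantCoeff_apply, PowerSeries.coeff_rescale]
    simp [LambdaRing.lamSeries, LambdaRing.LambdaOps.lam_zero]
  have h2 := congrArg (PowerSeries.coeff i) h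
  rw [PowerSeries.coeff_mul, PowerSeries.coeff_one,
    Finset.Nat.sum_antidiagonal_eq_sum_range_succ_mk] at h2
  rw [← h2]
  refine Finset.sum_congr rfl fun j hj => ?_
  simp only [PowerSeries.coeff_rescale, LambdaRing.lamSeries, PowerSeries.coeff_mk]
  rfl

end Groth.Agent.Krr.H501.ExtPolyAlg
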