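import Groth.Agent.Krr.H501.ExtPolyAlg

/-!
# `z (1 - ℓ) = 0 ⟹ z = f(z) λ_{-1}(c - ℓ)` in `K_c`
-/

set_option autoImplicit false

universe v

open Polynomial

namespace Groth.Agent.Krr.H501.FuncLam

open Groth.Agent.Krr.H501.ExtPolyAlg

variable {K : Type v} [CommRing K] [LambdaRing.LambdaOps K]

/-- In a commutative ring `A` with λ-operations, if `λ^i(ℓ) = 0` for `i ≥ 2`, then
`(-1)^{k+1} λ^{k+1}(ℓ + q) = (-1)^{k+1} λ^{k+1}(q) - ℓ (-1)^k λ^k(q)`. -/
theorem ac_add_line {A : Type v} [CommRing A] [LambdaRing.LambdaOps A] (l q : A)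
    (hl : ∀ i : ℕ, 2 ≤ i → LambdaRing.LambdaOps.lam i l = 0) (k : ℕ) :
    ac (l + q) (k + 1) = ac q (k + 1) - l * ac q k := by
  have h : LambdaRing.LambdaOps.lam (k + 1) (l + q) =
      LambdaRing.LambdaOps.lam (k + 1) q + l * LambdaRing.LambdaOps.lam k q := by
    rw [LambdaRing.LambdaOps.lam_add, Finset.sum_range_succ', Finset.sum_range_succ']
    rw [Finset.sum_eq_zero]
    · simp only [LambdaRing.LambdaOps.lam_zero, zero_add, LambdaRing.LambdaOps.lam_one]
      simp only [Nat.add_sub_cancel, Nat.sub_zero, one_mul]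
      ring
    · intro i _
      rw [hl (i + 1 + 1) (by omega), zero_mul]
  simp only [ac]
  rw [h]
  ring

/-- Value of the partial polynomial `B_i` at `ℓ` is `(-1)^i λ^i(c - ℓ)`. -/
theorem mk_extPart (c : K) {A : Type v} [CommRing A] [LambdaRing.LambdaOps A] (φ : K →+* A)
    (hφ : LambdaRing.IsLambdaHom φ) (l : A)
    (hl : ∀ i : ℕ, 2 ≤ i → LambdaRing.LambdaOps.lam i l = 0) (i : ℕ) :
    (extPart c i).eval₂ φ l = ac (φ c - l) i := by
  induction i with
  | zero => rw [extPart_zero, eval₂_one, ac_zero]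
  | succ i ih =>
    rw [extPart_succ, eval₂_add, eval₂_mul, eval₂_X, ih, eval₂_C]
    have h : φ (ac c (i + 1)) = ac (l + (φ c - l)) (i + 1) := by
      rw [add_sub_cancel]
      simp only [ac, map_mul, map_pow, map_neg, map_one, hφ (i + 1) c]
    rw [h, ac_add_line l (φ c - l) hl i]
    ring

/-- If `g (X - 1) = C h * B_{r+1}` then `g = C h * Σ_{i ≤ r} B_i`. -/
theorem eq_of_mul_X_sub_one (c : K) (r : ℕ) (g : K[X]) (h : K)
    (hg : g * (X - 1) = C h * extPart c (r + 1)) :
    g = C h * ∑ i ∈ Finset.range (r + 1), extPart c i := by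
  have hX : (X - 1 : K[X]) = X - C 1 := by simp
  have h1 : C h * ∑ i ∈ Finset.range (r + 2), C (ac c i) = (0 : K[X]) := by
    have hev := congrArg (fun q : K[X] => q.eval 1) hg
    simp only [eval_mul, eval_sub, eval_X, eval_one, sub_self, mul_zero, eval_C] at hev
    have hs := congrArg (fun q : K[X] => q.eval 1) (sum_extPart_mul c (r + 1))
    simp only [eval_mul, eval_sub, eval_X, eval_one, sub_self, mul_zero, eval_finsetSum,
      eval_C] at hs
    rw [← map_sum, ← C_mul]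
    have : h * ∑ i ∈ Finset.range (r + 2), ac c i = 0 := by
      have h3 : ∑ i ∈ Finset.range (r + 1 + 1), ac c i = (extPart c (r + 1)).eval 1 := by
        linear_combination hs
      rw [h3, ← hev]
    rw [this, C_0]
  have h2 : (g - C h * ∑ i ∈ Finset.range (r + 1), extPart c i) * (X - 1) = 0 := by
    rw [sub_mul, hg, mul_assoc, sum_extPart_mul, mul_sub, h1]
    ring
  have hmonic : (X - 1 : K[X]).Monic := by rw [hX]; exact monic_X_sub_C 1
  have h3 : g - C h * ∑ i ∈ Finset.range (r + 1), extPart c i = 0 := by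
    by_contra hne
    exact hne (hmonic.mul_left_eq_zero_iff.mp h2)
  exact sub_eq_zero.mp h3

/-- A `K`-linear functional on `K_c` with `f(ℓ^i) = σ^i(c)` for `i ≤ r` has
`f(Σ_{i ≤ r} (-1)^i λ^i(c - ℓ)) = 1`. -/
theorem functional_sum_extPart (p : K[X]) (c : K) (r : ℕ)
    (f : AdjoinRoot p →ₗ[K] K)
    (hf : ∀ i : ℕ, i ≤ r → f (AdjoinRoot.root p ^ i) = KRR.sigma i c) :
    f (AdjoinRoot.mk p (∑ i ∈ Finset.range (r + 1), extPart c i)) = 1 := by
  have key : ∀ i ∈ Finset.range (r + 1),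
      f (AdjoinRoot.mk p (extPart c i)) = if i = 0 then 1 else 0 := by
    intro i hi
    have hi' : i ≤ r := Nat.lt_succ_iff.mp (Finset.mem_range.mp hi)
    rw [← sum_ac_mul_sigma c i, extPart, map_sum, map_sum]
    refine Finset.sum_congr rfl fun j hj => ?_
    rw [map_mul, map_pow, AdjoinRoot.mk_X, AdjoinRoot.mk_C, ← AdjoinRoot.algebraMap_eq,
      ← Algebra.smul_def, map_smul, hf (i - j) (by omega), smul_eq_mul]
  rw [map_sum, map_sum, Finset.sum_congr rfl key]
  simp

theorem main [Nontrivial K] (P : LambdaRing.PosStructure K) (c : K) (r : ℕ)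
    (hr : P.aug c = r + 1)
    [inst : LambdaRing.LambdaOps (AdjoinRoot (KRR.extPoly P c))]
    (Pc : LambdaRing.PosStructure (AdjoinRoot (KRR.extPoly P c)))
    (hext : LambdaRing.IsExtension P Pc (AdjoinRoot.of (KRR.extPoly P c)))
    (hroot : ∀ i : ℕ, 2 ≤ i →
      LambdaRing.LambdaOps.lam i (AdjoinRoot.root (KRR.extPoly P c)) = 0)
    (haug : Pc.aug (AdjoinRoot.root (KRR.extPoly P c)) = 1)
    (f : AdjoinRoot (KRR.extPoly P c) →ₗ[K] K)
    (hf : ∀ i : ℕ, i ≤ r → f (AdjoinRoot.root (KRR.extPoly P c) ^ i) = KRR.sigma i c)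
    (z : AdjoinRoot (KRR.extPoly P c))
    (hz : z * (1 - AdjoinRoot.root (KRR.extPoly P c)) = 0) :
    z = AdjoinRoot.of (KRR.extPoly P c) (f z) *
      KRR.lamAlt Pc (AdjoinRoot.of (KRR.extPoly P c) c - AdjoinRoot.root (KRR.extPoly P c)) := by
  have hnat : (P.aug c).toNat = r + 1 := by omega
  have hp : KRR.extPoly P c = extPart c (r + 1) := by rw [extPoly_eq_extPart, hnat]
  have hmonic : (KRR.extPoly P c).Monic := by rw [hp]; exact (extPart_monic_natDegree c _).1
  have hdeg : (KRR.extPoly P c).natDegree = r + 1 := by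
    rw [hp]; exact (extPart_monic_natDegree c _).2
  -- value of lamAlt
  have hlam : KRR.lamAlt Pc
      (AdjoinRoot.of (KRR.extPoly P c) c - AdjoinRoot.root (KRR.extPoly P c)) =
      AdjoinRoot.mk (KRR.extPoly P c) (∑ i ∈ Finset.range (r + 1), extPart c i) := by
    have ha : (Pc.aug (AdjoinRoot.of (KRR.extPoly P c) c -
        AdjoinRoot.root (KRR.extPoly P c))).toNat = r := by
      rw [map_sub, hext.aug_comp, haug, hr]; omega
    rw [KRR.lamAlt, ha, map_sum]
    refine Finset.sum_congr rfl fun i _ => ?_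
    rw [← AdjoinRoot.aeval_eq, aeval_def, AdjoinRoot.algebraMap_eq,
      mk_extPart c (AdjoinRoot.of (KRR.extPoly P c)) hext.isLambdaHom _ hroot i]
    rfl
  rw [hlam]
  -- representative of `z` of degree `≤ r`
  obtain ⟨g₀, rfl⟩ := AdjoinRoot.mk_surjective z
  obtain ⟨g, hgz, hgdeg⟩ : ∃ g : K[X], AdjoinRoot.mk (KRR.extPoly P c) g =
      AdjoinRoot.mk (KRR.extPoly P c) g₀ ∧ g.degree < (KRR.extPoly P c).degree := by
    refine ⟨g₀ %ₘ KRR.extPoly P c, ?_, degree_modByMonic_lt _ hmonic⟩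
    rw [AdjoinRoot.mk_eq_mk]
    exact ⟨-(g₀ /ₘ KRR.extPoly P c), by
      linear_combination modByMonic_add_div g₀ (KRR.extPoly P c)⟩
  rw [← hgz] at hz ⊢
  -- `g (X - 1)` is divisible by `p`
  have hdvd : KRR.extPoly P c ∣ g * (X - 1) := by
    rw [← AdjoinRoot.mk_eq_zero, map_mul, map_sub, map_one, AdjoinRoot.mk_X]
    linear_combination -hz
  obtain ⟨h, hh⟩ := hdvd
  have hh0 : ∃ h0 : K, h = C h0 := by
    by_cases h00 : h = 0
    · exact ⟨0, by rw [h00, C_0]⟩
    refine ⟨h.coeff 0, eq_C_of_natDegree_eq_zero ?_⟩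
    have h1 : (KRR.extPoly P c * h).natDegree = r + 1 + h.natDegree := by
      rw [hmonic.natDegree_mul' h00, hdeg]
    have h2 : (g * (X - 1 : K[X])).natDegree ≤ r + 1 := by
      by_cases hg0 : g = 0
      · rw [hg0, zero_mul, natDegree_zero]; omega
      have h3 : g.natDegree < r + 1 := by
        rw [← hdeg]; exact natDegree_lt_natDegree hg0 hgdeg
      refine natDegree_mul_le.trans ?_
      have h4 : (X - 1 : K[X]).natDegree ≤ 1 := by
        rw [← C_1]; exact (natDegree_X_sub_C 1).le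
      omega
    rw [hh, h1] at h2
    omega
  obtain ⟨h0, rfl⟩ := hh0
  have hg : g = C h0 * ∑ i ∈ Finset.range (r + 1), extPart c i :=
    eq_of_mul_X_sub_one c r g h0 (by rw [hh, hp]; ring)
  have hf1 := functional_sum_extPart (KRR.extPoly P c) c r f hf
  have hfg : f (AdjoinRoot.mk (KRR.extPoly P c) g) = h0 := by
    rw [hg, map_mul, AdjoinRoot.mk_C, ← AdjoinRoot.algebraMap_eq, ← Algebra.smul_def, map_smul, hf1,
      smul_eq_mul, mul_one]
  rw [hfg, hg, map_mul, AdjoinRoot.mk_C]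

end Groth.Agent.Krr.H501.FuncLam
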