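import Groth.Agent.Sga67.BlowReg
import Groth.Agent.Flat2H.SmoothSection
import Groth.Agent.Divis.RegImm

/-!
# The chart `A[I/t]` of the blow-up of `I = (s_1, …, s_d, t)`

For a weakly regular sequence `s_1, …, s_d, t` of `A` and `B = A[I/t]`, `x_i = s_i/t`:
`t, x_1, …, x_d` is weakly regular in `B`, and `B = A + (x_1, …, x_d)`.
-/

set_option autoImplicit false
universe u

open RingTheory.Sequence MvPolynomial BlowUp

namespace Groth.Agent.Krr.H501.BlowSeq

open Groth.Agent.Divis Groth.Agent.Sga67

variable {A : Type u} [CommRing A]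

/-- The variables, enumerated by a finite type. -/
theorem isWeaklyRegular_X_equiv {σ : Type} {n : ℕ} (e : Fin n ≃ σ) (R : Type u) [CommRing R] :
    IsWeaklyRegular (MvPolynomial σ R) (List.ofFn fun i => (X (e i) : MvPolynomial σ R)) := by
  have h1 := Groth.Agent.Flat2H.SmoothSection.isWeaklyRegular_X R n
  have h2 := RegImm.isWeaklyRegular_map_of_flat (renameEquiv R e : MvPolynomial (Fin n) R →+* MvPolynomial σ R)
    (RingHom.Flat.of_bijective (renameEquiv R e).bijective) h1
  rw [List.map_ofFn] at h2
  have h3 : (⇑(renameEquiv R e : MvPolynomial (Fin n) R →+* MvPolynomial σ R) ∘ (X : Fin n → _)) =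
      fun i => (X (e i) : MvPolynomial σ R) := by
    funext i
    simp
  rw [h3] at h2
  exact h2

theorem exists_fr {d : ℕ} (f : Fin (d + 1) → A) (t : A) (ht : f (Fin.last d) = t) (I : Ideal A)
    (hI : I = Ideal.span (Set.range f)) (hf : CAlgX.IsQuasiRegular f) :
    ∃ x : Fin d → affineAlgebra A I t,
      (∀ i, algebraMap A (affineAlgebra A I t) t * x i = algebraMap A _ (f i.castSucc)) ∧
      IsWeaklyRegular (affineAlgebra A I t) (algebraMap A (affineAlgebra A I t) t :: List.ofFn x) ∧
      ∀ q : affineAlgebra A I t, ∃ a : A, q - algebraMap A _ a ∈ Ideal.span (Set.range x) := by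
  subst ht hI
  set k := Fin.last d with hk
  refine ⟨fun i => BlowQuot.fr f k i.castSucc, fun i => BlowQuot.fr_spec f k _, ?_, fun q => ?_⟩
  · -- weakly regular
    let e : Fin d ≃ {i : Fin (d + 1) // i ≠ k} := finSuccAboveEquiv k
    have he : ∀ i, (e i).1 = i.castSucc := fun i => by
      change k.succAbove i = i.castSucc
      rw [hk, Fin.succAbove_last]
    have hreg : IsWeaklyRegular (affineAlgebra A (Ideal.span (Set.range f)) (f k))
        [algebraMap A (affineAlgebra A (Ideal.span (Set.range f)) (f k)) (f k)] := by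
      rw [isWeaklyRegular_singleton_iff]
      have := BlowAlg.algebraMap_mem_nonZeroDivisors (Ideal.span (Set.range f)) (f k)
      intro a b hab
      exact (mul_cancel_left_mem_nonZeroDivisors this).1 hab
    let φ : affineAlgebra A (Ideal.span (Set.range f)) (f k) →+*
        MvPolynomial {i : Fin (d + 1) // i ≠ k} (A ⧸ Ideal.span (Set.range f)) :=
      (BlowQuot.quotEquiv k hf).toRingHom.comp (Ideal.Quotient.mk _)
    have hφ : Function.Surjective φ :=
      (BlowQuot.quotEquiv k hf).surjective.comp Ideal.Quotient.mk_surjective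
    have hker : RingHom.ker φ = Ideal.ofList
        [algebraMap A (affineAlgebra A (Ideal.span (Set.range f)) (f k)) (f k)] := by
      rw [Ideal.ofList_singleton]
      ext q
      rw [RingHom.mem_ker]
      change BlowQuot.quotEquiv k hf (Ideal.Quotient.mk _ q) = 0 ↔ _
      rw [EmbeddingLike.map_eq_zero_iff, Ideal.Quotient.eq_zero_iff_mem]
    have h1 : algebraMap A (affineAlgebra A (Ideal.span (Set.range f)) (f k)) (f k) ::
        List.ofFn (fun i : Fin d => BlowQuot.fr f k i.castSucc) =
        [algebraMap A (affineAlgebra A (Ideal.span (Set.range f)) (f k)) (f k)] ++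
        List.ofFn (fun i : Fin d => BlowQuot.fr f k i.castSucc) := rfl
    rw [h1, RegImm.isWeaklyRegular_append_of_surjective φ hφ _ _ hker]
    refine ⟨hreg, ?_⟩
    rw [List.map_ofFn]
    have h2 : (⇑φ ∘ fun i : Fin d => BlowQuot.fr f k i.castSucc) = fun i => X (e i) := by
      funext i
      have h3 : BlowQuot.fr f k i.castSucc = BlowQuot.Φ f k (X (e i)) := by
        unfold BlowQuot.Φ
        rw [aeval_X, he]
      change BlowQuot.quotEquiv k hf (Ideal.Quotient.mk _ (BlowQuot.fr f k i.castSucc)) = _
      rw [h3]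
      have h4 : (RingHom.quotientKerEquivOfSurjective (BlowQuot.Ψ_surjective f k)).symm
          (BlowQuot.Ψ f k (X (e i))) = Ideal.Quotient.mk _ (X (e i)) := by
        rw [RingEquiv.symm_apply_eq]
        rfl
      change BlowQuot.quotEquiv k hf (BlowQuot.Ψ f k (X (e i))) = _
      unfold BlowQuot.quotEquiv
      rw [RingEquiv.trans_apply, RingEquiv.trans_apply, h4]
      change (quotientEquivQuotientMvPolynomial (σ := {i : Fin (d + 1) // i ≠ k})
        (Ideal.span (Set.range f))).symm (Ideal.Quotient.mk _ (X (e i))) = _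
      rw [AlgEquiv.symm_apply_eq]
      change _ = eval₂Hom _ _ _
      simp
    rw [h2]
    exact isWeaklyRegular_X_equiv e _
  · obtain ⟨P, rfl⟩ := BlowQuot.Φ_surjective f k q
    refine ⟨constantCoeff P, ?_⟩
    induction P using MvPolynomial.induction_on with
    | C a =>
      rw [constantCoeff_C]
      unfold BlowQuot.Φ
      rw [algHom_C, sub_self]
      exact zero_mem _
    | add p q hp hq =>
      have : BlowQuot.Φ f k (p + q) - algebraMap A _ (constantCoeff (p + q)) =
          (BlowQuot.Φ f k p - algebraMap A _ (constantCoeff p)) +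
          (BlowQuot.Φ f k q - algebraMap A _ (constantCoeff q)) := by
        rw [map_add, map_add, map_add]; ring
      rw [this]
      exact add_mem hp hq
    | mul_X p i _ =>
      have : BlowQuot.Φ f k (p * X i) - algebraMap A _ (constantCoeff (p * X i)) =
          BlowQuot.Φ f k p * BlowQuot.fr f k i.1 := by
        rw [map_mul, map_mul, constantCoeff_X, mul_zero, map_zero, sub_zero]
        unfold BlowQuot.Φ
        rw [aeval_X]
      rw [this]
      refine Ideal.mul_mem_left _ _ (Ideal.subset_span ?_)
      have hi : i.1 ≠ Fin.last d := i.2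
      refine ⟨i.1.castPred hi, ?_⟩
      simp only [Fin.castSucc_castPred]

theorem exists_chart_seq {d : ℕ} (s : Fin d → A) (t : A) (h : IsWeaklyRegular A (List.ofFn s ++ [t]))
    (I : Ideal A) (hI : I = Ideal.span (Set.range s) ⊔ Ideal.span {t}) :
    ∃ x : Fin d → affineAlgebra A I t,
      (∀ i, algebraMap A (affineAlgebra A I t) t * x i = algebraMap A _ (s i)) ∧
      IsWeaklyRegular (affineAlgebra A I t) (algebraMap A (affineAlgebra A I t) t :: List.ofFn x) ∧
      ∀ q : affineAlgebra A I t, ∃ a : A, q - algebraMap A _ a ∈ Ideal.span (Set.range x) := by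
  let f : Fin (d + 1) → A := Fin.snoc s t
  have hf1 : List.ofFn f = List.ofFn s ++ [t] := by
    rw [List.ofFn_succ', List.concat_eq_append]
    simp [f]
  have hq : CAlgX.IsQuasiRegular f := BlowReg.isQuasiRegular_of_isWeaklyRegular f (by rw [hf1]; exact h)
  have hI' : I = Ideal.span (Set.range f) := by
    rw [hI, ← Ideal.span_union]
    congr 1
    ext a
    constructor
    · rintro (⟨i, rfl⟩ | rfl)
      · exact ⟨i.castSucc, by simp [f]⟩
      · exact ⟨Fin.last d, by simp [f]⟩
    · rintro ⟨i, rfl⟩
      refine Fin.lastCases ?_ (fun i => ?_) i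
      · right; simp [f]
      · left; exact ⟨i, by simp [f]⟩
  obtain ⟨x, h1, h2, h3⟩ := exists_fr f t (by simp [f]) I hI' hq
  exact ⟨x, fun i => by rw [h1 i]; simp [f], h2, h3⟩

end Groth.Agent.Krr.H501.BlowSeq
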