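import Groth.Agent.Krr.H501.LiftReg
import Groth.Agent.Flat2C.BlowProper
import Groth.Agent.Divis.ColonIdeal

/-!
# The lift of a closed subscheme to the blow-up of its intersection with a divisor

`j : V ⟶ W` a closed immersion, `𝓓` an effective Cartier ideal of `W` with `𝓓.comap j` effective Cartier,
`b : M ⟶ W` the blow-up of `j.ker ⊔ 𝓓`.

* `exists_lift`: the lift `F : V ⟶ M` with `F ≫ b = j`, a closed immersion.
* `exists_lift_of_top`: morphisms `g` avoiding the centre lift.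
* `isPullback_of_comp`: fibre squares lift to `M`.
* `exists_section`: the fibre product of `F` with the exceptional divisor `E` is a section of `E ⟶ Z`.
* `exists_residual`: `𝓓.comap b = 𝓑 * 𝓔` with `𝓑` effective Cartier and `𝓑.comap F = ⊤`.
-/

set_option autoImplicit false
universe u

open CategoryTheory AlgebraicGeometry Limits
open BlowUp

namespace Groth.Agent.Krr.H501.DefLift

open Groth.Agent.Divis Groth.Agent.Divis.IdealComap Groth.Agent.Divis.CartierBasic
open Groth.Agent.Krr.H501.LiftReg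

/-- Image of the restriction of an ideal to a closed subscheme. -/
lemma map_comap_of_closed {X Y : Scheme.{u}} (i : Y ⟶ X) [IsClosedImmersion i] (B : X.IdealSheafData) :
    (B.comap i).map i = i.ker ⊔ B := by
  apply le_antisymm
  · let C : X.IdealSheafData := i.ker ⊔ B
    have h1 : i.ker ≤ C.subschemeι.ker := by
      rw [Scheme.IdealSheafData.ker_subschemeι]; exact le_sup_left
    let g := IsClosedImmersion.lift i C.subschemeι h1
    have hg : g ≫ i = C.subschemeι := IsClosedImmersion.lift_fac _ _ _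
    have hC : C = g.ker.map i := by
      rw [Scheme.IdealSheafData.map_ker, hg, Scheme.IdealSheafData.ker_subschemeι]
    have h2 : B.comap i ≤ g.ker := by
      rw [← Scheme.IdealSheafData.le_map_iff_comap_le, ← hC]
      exact le_sup_right
    calc (B.comap i).map i ≤ g.ker.map i := Scheme.IdealSheafData.map_mono i h2
      _ = i.ker ⊔ B := hC.symm
  · refine sup_le ?_ (Scheme.IdealSheafData.le_map_comap _ _)
    rw [← Scheme.IdealSheafData.map_bot]
    exact Scheme.IdealSheafData.map_mono i bot_le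

lemma ker_of_isPullback {X X' Z Z' : Scheme.{u}} {g : X' ⟶ X} {i : Z ⟶ X}
    {i' : Z' ⟶ X'} {g' : Z' ⟶ Z} (h : IsPullback i' g' g i) [IsClosedImmersion i] :
    i'.ker = i.ker.comap g := by
  have h1 : h.isoPullback.hom ≫ pullback.fst g i = i' := by simp
  rw [← h1, Scheme.Hom.ker_comp_of_isIso, Scheme.IdealSheafData.ker_fst_of_isClosedImmersion]

/-- The ideal of the intersection of two closed subschemes. -/
lemma ker_inter {Z V D W : Scheme.{u}} {k : Z ⟶ V} {g : Z ⟶ D} {j : V ⟶ W} {i : D ⟶ W}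
    (h : IsPullback k g j i) [IsClosedImmersion j] [IsClosedImmersion i] :
    (k ≫ j).ker = j.ker ⊔ i.ker := by
  rw [← Scheme.IdealSheafData.map_ker, ker_of_isPullback h, map_comap_of_closed]

/-- A commutative square which becomes cartesian after composition is cartesian. -/
lemma isPullback_of_comp {P X Y Z Z' : Scheme.{u}} {p : P ⟶ X} {q : P ⟶ Y} {f : X ⟶ Z} {g : Y ⟶ Z}
    {b : Z ⟶ Z'} (h : IsPullback p q (f ≫ b) (g ≫ b)) (hw : p ≫ f = q ≫ g) : IsPullback p q f g := by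
  refine ⟨⟨hw⟩, ⟨PullbackCone.IsLimit.mk hw
    (fun s => h.lift s.fst s.snd (by rw [← Category.assoc, s.condition, Category.assoc]))
    (fun s => h.lift_fst _ _ _) (fun s => h.lift_snd _ _ _) (fun s m h1 h2 => ?_)⟩⟩
  apply h.hom_ext
  · rw [h1, h.lift_fst]
  · rw [h2, h.lift_snd]

/-- Cancellation of an effective Cartier ideal. -/
lemma eq_top_of_mul_eq {X : Scheme.{u}} {I J : X.IdealSheafData} (hI : IsEffCartierIdeal I) (h : J * I = I) :
    J = ⊤ := by
  apply ext_stalkIdeal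
  intro x
  obtain ⟨U, hx, f, hf, hU⟩ := hI x
  have h1 := congrArg (fun K : X.IdealSheafData => K.ideal U) h
  simp only [Scheme.IdealSheafData.ideal_mul, Pi.mul_apply] at h1
  rw [hU, Ideal.ext_iff] at h1
  obtain ⟨a, ha, hae⟩ := Ideal.mem_mul_span_singleton.1 ((h1 f).2 (Ideal.mem_span_singleton_self f))
  have h2 : a = 1 := by
    have : a * f = 1 * f := by rw [hae, one_mul]
    exact (mul_cancel_right_mem_nonZeroDivisors hf).1 this
  rw [h2] at ha
  rw [stalkIdeal_eq _ U hx, (Ideal.eq_top_iff_one _).2 ha, Ideal.map_top, stalkIdeal_top]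

section Lift

variable {W V M : Scheme.{u}} {j : V ⟶ W} [IsClosedImmersion j] {𝓓 : W.IdealSheafData} {b : M ⟶ W}

/-- The lift of `j` to the blow-up of `j.ker ⊔ 𝓓`. -/
theorem exists_lift (hV : IsEffCartierIdeal (𝓓.comap j)) (hb : IsBlowUp b (j.ker ⊔ 𝓓)) :
    ∃ F : V ⟶ M, IsClosedImmersion F ∧ F ≫ b = j := by
  obtain ⟨F, hF, -⟩ := hb.2 V j (by rw [comap_sup_ker]; exact hV)
  have := Groth.Agent.Flat2C.BlowProper.isSeparated_of_isBlowUp hb
  have h1 : IsClosedImmersion (F ≫ b) := by rw [hF]; infer_instance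
  exact ⟨F, IsClosedImmersion.of_comp F b, hF⟩

omit [IsClosedImmersion j] in
/-- Morphisms avoiding the centre lift. -/
theorem exists_lift_of_top {𝓘 : W.IdealSheafData} (hb : IsBlowUp b 𝓘) {Y : Scheme.{u}} (g : Y ⟶ W)
    (hg : 𝓘.comap g = ⊤) : ∃ g₀ : Y ⟶ M, g₀ ≫ b = g :=
  (hb.2 Y g (by rw [hg]; exact EffCartier.isEff_top)).exists

/-- Two lifts of a morphism avoiding the centre are equal. -/
theorem lift_unique {𝓘 : W.IdealSheafData} (hb : IsBlowUp b 𝓘) {Y : Scheme.{u}} {g g' : Y ⟶ M}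
    (h : g ≫ b = g' ≫ b) (hg : IsEffCartierIdeal (𝓘.comap (g' ≫ b))) : g = g' :=
  (hb.2 Y (g' ≫ b) hg).unique h rfl

/-- A fibre square over `W` away from the centre lifts to a fibre square over `M`. -/
theorem isPullback_lift {𝓘 : W.IdealSheafData} (hb : IsBlowUp b 𝓘) {X Y : Scheme.{u}} {F : V ⟶ M} {g₀ : Y ⟶ M}
    {f : X ⟶ Y} {i₀ : X ⟶ V} (h : IsPullback f i₀ (g₀ ≫ b) (F ≫ b)) (hg : 𝓘.comap (g₀ ≫ b) = ⊤) :
    IsPullback f i₀ g₀ F := by
  refine isPullback_of_comp h ?_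
  symm
  refine lift_unique hb ?_ ?_
  · rw [Category.assoc, Category.assoc, h.w]
  · rw [Category.assoc, Scheme.IdealSheafData.comap_comp, hg, Scheme.IdealSheafData.comap_top]
    exact EffCartier.isEff_top

/-- The lift of a section avoiding the centre: kernel. -/
theorem ker_lift_of_top {𝓘 : W.IdealSheafData} (hb : IsBlowUp b 𝓘) {Y : Scheme.{u}} {g₀ : Y ⟶ M}
    [IsClosedImmersion (g₀ ≫ b)] (hg : 𝓘.comap (g₀ ≫ b) = ⊤) :
    IsClosedImmersion g₀ ∧ IsPullback g₀ (𝟙 Y) b (g₀ ≫ b) ∧ g₀.ker = (g₀ ≫ b).ker.comap b := by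
  have := Groth.Agent.Flat2C.BlowProper.isSeparated_of_isBlowUp hb
  have h1 : IsClosedImmersion g₀ := IsClosedImmersion.of_comp g₀ b
  have h2 : IsPullback g₀ (𝟙 Y) b (g₀ ≫ b) := by
    refine ⟨⟨by rw [Category.id_comp]⟩, ⟨PullbackCone.IsLimit.mk (by rw [Category.id_comp])
      (fun s => s.snd) (fun s => ?_) (fun s => Category.comp_id _) (fun s m _ h2 => ?_)⟩⟩
    · refine (lift_unique hb ?_ ?_)
      · rw [Category.assoc, s.condition]
      · rw [s.condition, Scheme.IdealSheafData.comap_comp, hg, Scheme.IdealSheafData.comap_top]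
        exact EffCartier.isEff_top
    · rw [← h2, Category.comp_id]
  exact ⟨h1, h2, ker_of_isPullback h2⟩

omit [IsClosedImmersion j] in
/-- The fibre product of the lift with the exceptional divisor is a section of `E ⟶ Z`. -/
theorem exists_section [Mono j] {F : V ⟶ M} (hF : F ≫ b = j) {Z E : Scheme.{u}} {k : Z ⟶ V} {iE : E ⟶ M} {ψ : E ⟶ Z}
    (hE : IsPullback iE ψ b (k ≫ j)) :
    ∃ s : Z ⟶ E, s ≫ ψ = 𝟙 Z ∧ s ≫ iE = k ≫ F ∧ IsPullback s k iE F := by
  have hw : (k ≫ F) ≫ b = 𝟙 Z ≫ k ≫ j := by rw [Category.assoc, hF, Category.id_comp]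
  let s : Z ⟶ E := hE.lift (k ≫ F) (𝟙 Z) hw
  have h1 : s ≫ iE = k ≫ F := hE.lift_fst _ _ _
  have h2 : s ≫ ψ = 𝟙 Z := hE.lift_snd _ _ _
  refine ⟨s, h2, h1, ?_⟩
  -- the outer rectangle
  have h3 : IsPullback (s ≫ ψ) k (k ≫ j) (F ≫ b) := by
    rw [h2, hF]
    refine ⟨⟨by rw [Category.id_comp]⟩, ⟨PullbackCone.IsLimit.mk (by rw [Category.id_comp])
      (fun t => t.fst) (fun t => Category.comp_id _) (fun t => ?_) (fun t m h1 _ => ?_)⟩⟩
    · rw [← cancel_mono j, Category.assoc, t.condition]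
    · rw [← h1, Category.comp_id]
  exact IsPullback.of_right h3 h1 hE.flip

/-- **The residual divisor.** -/
theorem exists_residual [IsLocallyNoetherian W] (h𝓓 : IsEffCartierIdeal 𝓓) (hV : IsEffCartierIdeal (𝓓.comap j))
    (hb : IsBlowUp b (j.ker ⊔ 𝓓)) :
    ∃ 𝓑 : M.IdealSheafData, IsEffCartierIdeal 𝓑 ∧ 𝓑 * (j.ker ⊔ 𝓓).comap b = 𝓓.comap b ∧
      ∀ F : V ⟶ M, F ≫ b = j → 𝓑.comap F = ⊤ := by
  have : IsLocallyNoetherian M := Groth.Agent.Ega4dB.BlowFT.isLocallyNoetherian_of_isBlowUp hb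
  obtain ⟨𝓑, h1, h2⟩ := ColonIdeal.exists_mul_eq (J := 𝓓.comap b) (K := (j.ker ⊔ 𝓓).comap b) hb.1
    (BlowUpFormal.isEff_comap_of_isBlowUp hb h𝓓) (Scheme.IdealSheafData.comap_mono b le_sup_right)
  refine ⟨𝓑, h1, by rw [mul_comm]; exact h2, fun F hF => ?_⟩
  have h3 := congrArg (fun K : M.IdealSheafData => K.comap F) h2
  simp only [comap_mul, ← Scheme.IdealSheafData.comap_comp, hF, comap_sup_ker] at h3
  exact eq_top_of_mul_eq hV (by rw [mul_comm]; exact h3)

end Lift

end Groth.Agent.Krr.H501.DefLift
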