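import Groth.Agent.Krr.H501.StalkLen
import Groth.Agent.Krr.H501.BlowSeq
import Groth.Agent.Ega4dB.BlowFT
import Groth.Agent.Divis.BlowChart2

/-!
# The strict transform of a regular closed subscheme in the blow-up of its intersection with a divisor

Let `j : V ⟶ W` be a closed immersion, regular of codimension `d`, `𝓓` the ideal of an effective Cartier divisor on
`W` whose inverse image on `V` is again effective Cartier, `b : M ⟶ W` the blow-up of `j.ker ⊔ 𝓓` and `F : V ⟶ M`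
with `F ≫ b = j`.  Then `F` is a regular closed immersion of codimension `d`, and so is its restriction to the
exceptional divisor.
-/

set_option autoImplicit false
universe u

open CategoryTheory AlgebraicGeometry Limits
open RingTheory.Sequence BlowUp

namespace Groth.Agent.Krr.H501.LiftReg

open Groth.Agent.Divis Groth.Agent.Divis.IdealComap Groth.Agent.Divis.RegImm Groth.Agent.Divis.CartierBasic
open Groth.Agent.Krr.H501.RegLen Groth.Agent.Krr.H501.StalkLen Groth.Agent.Divis.BlowChart2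

variable {W V M : Scheme.{u}}

/-- `(j.ker).comap j = ⊥` for a closed immersion. -/
theorem comap_ker_self {V W : Scheme.{u}} (j : V ⟶ W) [IsClosedImmersion j] : j.ker.comap j = ⊥ := by
  apply ext_stalkIdeal
  intro v
  rw [CartierStalk.stalkIdeal_comap, stalkIdeal_bot, ← CartierStalk.ker_stalkMap, Ideal.map_eq_bot_iff_le_ker]

theorem comap_sup_ker {V W : Scheme.{u}} (j : V ⟶ W) [IsClosedImmersion j] (𝓓 : W.IdealSheafData) :
    (j.ker ⊔ 𝓓).comap j = 𝓓.comap j := by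
  rw [Scheme.IdealSheafData.comap_sup, comap_ker_self, bot_sup_eq]

/-- Kernel computation, abstract form. -/
theorem ker_eq_span {A B O OV OW : Type u} [CommRing A] [CommRing B] [CommRing O] [CommRing OV] [CommRing OW]
    (α : A →+* B) (ρ : B →+* O) (γ : A →+* OW) (β : OW →+* O) (π : O →+* OV)
    (hρ : ∀ g : O, ∃ (q : B) (u : O), IsUnit u ∧ g * u = ρ q)
    (hcomm : ∀ a, β (γ a) = ρ (α a)) {d : ℕ} (s : Fin d → A) (t : A) (x : Fin d → B)
    (hker : ∀ c : OW, π (β c) = 0 ↔ c ∈ Ideal.span (Set.range fun i => γ (s i)))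
    (ht : π (ρ (α t)) ∈ nonZeroDivisors OV) (hx : ∀ i, α t * x i = α (s i))
    (hgen : ∀ q : B, ∃ a : A, q - α a ∈ Ideal.span (Set.range x)) (g : O) :
    π g = 0 ↔ g ∈ Ideal.span (Set.range fun i => ρ (x i)) := by
  have hkx : ∀ i, π (ρ (x i)) = 0 := by
    intro i
    have h1 : π (ρ (α t)) * π (ρ (x i)) = 0 := by
      rw [← map_mul, ← map_mul, hx i, ← hcomm, hker]
      exact Ideal.subset_span ⟨i, rfl⟩
    exact (mul_left_mem_nonZeroDivisors_eq_zero_iff ht).1 h1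
  have hkill : ∀ y ∈ Ideal.span (Set.range fun i => ρ (x i)), π y = 0 := by
    intro y hy
    have : Ideal.span (Set.range fun i => ρ (x i)) ≤ RingHom.ker π := by
      rw [Ideal.span_le]
      rintro _ ⟨i, rfl⟩
      exact hkx i
    exact this hy
  refine ⟨fun hg => ?_, hkill g⟩
  obtain ⟨q, u, hu, hq⟩ := hρ g
  obtain ⟨a, ha⟩ := hgen q
  have h1 : ρ (q - α a) ∈ Ideal.span (Set.range fun i => ρ (x i)) := by
    have h2 : (Ideal.span (Set.range x)).map ρ = Ideal.span (Set.range fun i => ρ (x i)) := by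
      rw [Ideal.map_span, ← Set.range_comp]
      rfl
    rw [← h2]
    exact Ideal.mem_map_of_mem ρ ha
  have h2 := hkill _ h1
  rw [map_sub, map_sub, ← hq, map_mul, hg, zero_mul, zero_sub, neg_eq_zero, ← hcomm, hker] at h2
  have h3 : ρ (α a) ∈ Ideal.span (Set.range fun i => ρ (x i)) := by
    have h4 := Ideal.mem_map_of_mem β h2
    rw [Ideal.map_span, ← Set.range_comp, hcomm] at h4
    refine Ideal.span_le.2 ?_ h4
    rintro _ ⟨i, rfl⟩
    change β (γ (s i)) ∈ Ideal.span _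
    rw [hcomm, ← hx i, map_mul]
    exact Ideal.mul_mem_left _ _ (Ideal.subset_span ⟨i, rfl⟩)
  have h5 := add_mem h1 h3
  rw [map_sub, sub_add_cancel, ← hq] at h5
  exact (Ideal.mul_unit_mem_iff_mem _ hu).1 h5

section Main

variable {j : V ⟶ W} [IsClosedImmersion j] {𝓓 : W.IdealSheafData} {b : M ⟶ W} {F : V ⟶ M}

/-- The point `F v` lies in the chart of the local equation `t` of `𝓓`. -/
theorem mem_chart [IsClosedImmersion F] (hF : F ≫ b = j) (hb : IsBlowUp b (j.ker ⊔ 𝓓))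
    (hV : IsEffCartierIdeal (𝓓.comap j)) (v : V) (U : W.affineOpens) (hU : j v ∈ U.1)
    {d : ℕ} (s : Fin d → Γ(W, U.1)) (hs : j.ker.ideal U = Ideal.span (Set.range s)) (t : Γ(W, U.1))
    (ht : 𝓓.ideal U = Ideal.span {t}) : F v ∈ chart b (j.ker ⊔ 𝓓) U t := by
  have hbF : b (F v) = j v := by rw [← Scheme.Hom.comp_apply, hF]
  have hspan : (j.ker ⊔ 𝓓).ideal U = Ideal.span (Set.range s ∪ {t}) := by
    rw [Scheme.IdealSheafData.ideal_sup, Pi.sup_apply, hs, ht, ← Ideal.span_union]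
  obtain ⟨a, ha, hm⟩ := exists_mem_chart_of_span b (j.ker ⊔ 𝓓) U hb.1 hspan (F v)
    (by change b (F v) ∈ U.1; rw [hbF]; exact hU)
  rcases ha with ⟨i, rfl⟩ | rfl
  swap
  · exact hm
  exfalso
  subst hF
  have hsi : s i ∈ (F ≫ b).ker.ideal U := by
    rw [hs]; exact Ideal.subset_span ⟨i, rfl⟩
  have haI : s i ∈ ((F ≫ b).ker ⊔ 𝓓).ideal U := by
    rw [hspan]; exact Ideal.subset_span (Or.inl ⟨i, rfl⟩)
  have hC := isAffineOpen_chart b ((F ≫ b).ker ⊔ 𝓓) U hb haI
  have h1 := ideal_chart b ((F ≫ b).ker ⊔ 𝓓) U (s i) hC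
  -- the stalk of the ideal of `D` at `v` is zero
  have h2 : stalkIdeal (𝓓.comap (F ≫ b)) v = ⊥ := by
    rw [← comap_sup_ker (F ≫ b) 𝓓, Scheme.IdealSheafData.comap_comp, CartierStalk.stalkIdeal_comap,
      stalkIdeal_eq _ ⟨_, hC⟩ hm, h1, Ideal.map_span, Set.image_singleton, Ideal.map_span,
      Set.image_singleton, Ideal.span_singleton_eq_bot]
    have h3 : (F.stalkMap v).hom ((M.presheaf.germ (chart b ((F ≫ b).ker ⊔ 𝓓) U (s i)) (F v) hm).hom
        ((b.appLE U.1 _ (chart_le b ((F ≫ b).ker ⊔ 𝓓) U (s i))).hom (s i))) =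
        ((F ≫ b).stalkMap v).hom ((W.presheaf.germ U.1 ((F ≫ b) v) hU).hom (s i)) := by
      have e1 : b.appLE U.1 _ (chart_le b ((F ≫ b).ker ⊔ 𝓓) U (s i)) ≫
          M.presheaf.germ (chart b ((F ≫ b).ker ⊔ 𝓓) U (s i)) (F v) hm =
          W.presheaf.germ U.1 (b (F v)) (chart_le b ((F ≫ b).ker ⊔ 𝓓) U (s i) hm) ≫ b.stalkMap (F v) := by
        rw [Scheme.Hom.germ_stalkMap, Scheme.Hom.appLE, Category.assoc]
        congr 1
        exact M.presheaf.germ_res _ _ _
      have e2 := congr($(congrArg CommRingCat.Hom.hom e1) (s i))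
      simp only [CommRingCat.hom_comp, RingHom.comp_apply] at e2
      rw [e2, Scheme.Hom.stalkMap_comp]
      rfl
    rw [h3]
    have h4 : (W.presheaf.germ U.1 ((F ≫ b) v) hU).hom (s i) ∈ RingHom.ker ((F ≫ b).stalkMap v).hom := by
      rw [CartierStalk.ker_stalkMap, stalkIdeal_eq _ U hU]
      exact Ideal.mem_map_of_mem _ hsi
    exact h4
  obtain ⟨N, hvN, -, g, hg, hgN⟩ := EffCartier.exists_princAt hV v ⊤ trivial
  rw [stalkIdeal_eq _ N hvN, hgN, Ideal.map_span, Set.image_singleton, Ideal.span_singleton_eq_bot] at h2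
  have h5 := Groth.Agent.Divis.BlowChart.germ_mem_nonZeroDivisors N.2 hg v hvN
  change (V.presheaf.germ N.1 v hvN).hom g ∈ _ at h5
  rw [h2] at h5
  exact zero_notMem_nonZeroDivisors h5

/-- Commutation of germs with stalk maps on a chart. -/
theorem stalkMap_germ_app {X Y : Scheme.{u}} (f : X ⟶ Y) (U : Y.Opens) (V' : X.Opens) (e : V' ≤ f ⁻¹ᵁ U) (x : X)
    (hx : x ∈ V') (a : Γ(Y, U)) :
    (X.presheaf.germ V' x hx).hom ((f.appLE U V' e).hom a) =
      (f.stalkMap x).hom ((Y.presheaf.germ U (f x) (e hx)).hom a) := by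
  have e1 : f.appLE U V' e ≫ X.presheaf.germ V' x hx = Y.presheaf.germ U (f x) (e hx) ≫ f.stalkMap x := by
    rw [Scheme.Hom.germ_stalkMap, Scheme.Hom.appLE, Category.assoc]
    congr 1
    exact X.presheaf.germ_res _ _ _
  exact congr($(congrArg CommRingCat.Hom.hom e1) a)

/-- Local equations near `j v`, in the chart of the blow-up through `F v`. -/
theorem exists_local [IsClosedImmersion F] (hF : F ≫ b = j) (hb : IsBlowUp b (j.ker ⊔ 𝓓))
    (h𝓓 : IsEffCartierIdeal 𝓓) (hV : IsEffCartierIdeal (𝓓.comap j)) {d : ℕ} (v : V)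
    (hj : RegAtLen j.ker d (j v)) :
    ∃ (U : W.affineOpens) (s : Fin d → Γ(W, U.1)) (t : Γ(W, U.1)) (C : M.Opens) (hCle : C ≤ b ⁻¹ᵁ U.1)
      (hC : IsAffineOpen C) (x : Fin d → Γ(M, C)),
      j v ∈ U.1 ∧ F v ∈ C ∧ j.ker.ideal U = Ideal.span (Set.range s) ∧ 𝓓.ideal U = Ideal.span {t} ∧
      (∀ i, (b.appLE U.1 C hCle).hom t * x i = (b.appLE U.1 C hCle).hom (s i)) ∧
      IsWeaklyRegular Γ(M, C) ((b.appLE U.1 C hCle).hom t :: List.ofFn x) ∧
      (∀ q : Γ(M, C), ∃ a : Γ(W, U.1), q - (b.appLE U.1 C hCle).hom a ∈ Ideal.span (Set.range x)) ∧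
      ((j.ker ⊔ 𝓓).comap b).ideal ⟨C, hC⟩ = Ideal.span {(b.appLE U.1 C hCle).hom t} := by
  obtain ⟨U₀, hvU₀, rs₀, hrs₀, hl₀, hI₀⟩ := hj
  obtain ⟨U, hvU, hUU₀, t, ht, htU⟩ := EffCartier.exists_princAt h𝓓 (j v) U₀.1 hvU₀
  obtain ⟨hrs, hI⟩ := exists_of_le (V := U) hUU₀ hrs₀ hI₀
  generalize hrsdef : rs₀.map (W.presheaf.map (homOfLE hUU₀).op).hom = rs at hrs hI
  have hl : rs.length = d := by rw [← hrsdef, List.length_map, hl₀]
  subst hl
  have hsurj : Function.Surjective (j.app U.1).hom := j.app_surjective U.1 U.2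
  have hkerj : RingHom.ker (j.app U.1).hom = Ideal.ofList rs := by rw [← Scheme.Hom.ker_apply, hI]
  have hseq : IsWeaklyRegular Γ(W, U.1) (List.ofFn rs.get ++ [t]) := by
    rw [List.ofFn_get, isWeaklyRegular_append_of_surjective _ hsurj rs [t] hkerj]
    refine ⟨hrs, ?_⟩
    rw [List.map_singleton, isWeaklyRegular_singleton_iff]
    have h1 : (𝓓.comap j).ideal ⟨j ⁻¹ᵁ U.1, U.2.preimage j⟩ = Ideal.span {(j.app U.1).hom t} := by
      rw [ideal_comap 𝓓 j U ⟨j ⁻¹ᵁ U.1, U.2.preimage j⟩ le_rfl, htU, Ideal.map_span, Set.image_singleton,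
        Scheme.Hom.app_eq_appLE]
    have h2 := mem_nonZeroDivisors_of_ideal_eq_span hV _ _ h1
    intro x y hxy
    exact (mul_cancel_left_mem_nonZeroDivisors h2).1 hxy
  have hs : j.ker.ideal U = Ideal.span (Set.range rs.get) := by
    rw [hI, Groth.Agent.Sga67.KosImm.Chart.ofList_eq_span]
  have hIspan : (j.ker ⊔ 𝓓).ideal U = Ideal.span (Set.range rs.get) ⊔ Ideal.span {t} := by
    rw [Scheme.IdealSheafData.ideal_sup, Pi.sup_apply, hs, htU]
  obtain ⟨x, hx1, hx2, hx3⟩ := BlowSeq.exists_chart_seq rs.get t hseq ((j.ker ⊔ 𝓓).ideal U) hIspan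
  have htI : t ∈ (j.ker ⊔ 𝓓).ideal U := by
    rw [hIspan]; exact Ideal.mem_sup_right (Ideal.mem_span_singleton_self t)
  obtain ⟨θ, hθ⟩ := exists_ringEquiv_chart b (j.ker ⊔ 𝓓) U hb htI
  refine ⟨U, rs.get, t, chart b (j.ker ⊔ 𝓓) U t, chart_le b (j.ker ⊔ 𝓓) U t,
    isAffineOpen_chart b (j.ker ⊔ 𝓓) U hb htI, fun i => θ (x i), hvU,
    mem_chart hF hb hV v U hvU rs.get hs t htU, hs, htU, fun i => ?_, ?_, fun q => ?_,
    ideal_chart b (j.ker ⊔ 𝓓) U t (isAffineOpen_chart b (j.ker ⊔ 𝓓) U hb htI)⟩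
  · rw [← hθ, ← map_mul, hx1 i, hθ]
  · have h1 := isWeaklyRegular_map_of_flat θ.toRingHom
      (RingHom.Flat.of_bijective θ.bijective) hx2
    rw [List.map_cons, List.map_ofFn] at h1
    rw [← hθ t]
    exact h1
  · obtain ⟨q, rfl⟩ := θ.surjective q
    obtain ⟨a, ha⟩ := hx3 q
    refine ⟨a, ?_⟩
    rw [← hθ, ← map_sub]
    have h2 : (Ideal.span (Set.range x)).map θ.toRingHom =
        Ideal.span (Set.range fun i => θ (x i)) := by
      rw [Ideal.map_span, ← Set.range_comp]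
      rfl
    rw [← h2]
    exact Ideal.mem_map_of_mem θ.toRingHom ha

/-- The kernel of the stalk map of `F ≫ b` at `v` in terms of local equations. -/
theorem stalkMap_comp_eq_zero_iff [IsClosedImmersion (F ≫ b)] (v : V) (U : W.affineOpens) (hU : b (F v) ∈ U.1)
    {d : ℕ} (s : Fin d → Γ(W, U.1)) (hs : (F ≫ b).ker.ideal U = Ideal.span (Set.range s))
    (c : W.presheaf.stalk (b (F v))) :
    (F.stalkMap v).hom ((b.stalkMap (F v)).hom c) = 0 ↔
      c ∈ Ideal.span (Set.range fun i => (W.presheaf.germ U.1 (b (F v)) hU).hom (s i)) := by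
  have h0 : ((F ≫ b).stalkMap v).hom c = (F.stalkMap v).hom ((b.stalkMap (F v)).hom c) := by
    rw [Scheme.Hom.stalkMap_comp]; rfl
  have hU' : (F ≫ b) v ∈ U.1 := hU
  have h1 : stalkIdeal (F ≫ b).ker ((F ≫ b) v) =
      Ideal.span (Set.range fun i => (W.presheaf.germ U.1 ((F ≫ b) v) hU').hom (s i)) := by
    rw [stalkIdeal_eq _ U hU', hs, Ideal.map_span, ← Set.range_comp]
    rfl
  have h2 : ((F ≫ b).stalkMap v).hom c = 0 ↔ c ∈ stalkIdeal (F ≫ b).ker ((F ≫ b) v) := by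
    rw [← CartierStalk.ker_stalkMap]; rfl
  rw [h1] at h2
  rw [← h0]
  exact h2

/-- The local rings of `M` at the points of `F(V)`. -/
theorem exists_seq [IsClosedImmersion F] (hF : F ≫ b = j) (hb : IsBlowUp b (j.ker ⊔ 𝓓))
    (h𝓓 : IsEffCartierIdeal 𝓓) (hV : IsEffCartierIdeal (𝓓.comap j)) {d : ℕ} (v : V)
    (hj : RegAtLen j.ker d (j v)) :
    ∃ (T : M.presheaf.stalk (F v)) (xs : List (M.presheaf.stalk (F v))),
      IsWeaklyRegular (M.presheaf.stalk (F v)) (T :: xs) ∧ xs.length = d ∧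
      stalkIdeal ((j.ker ⊔ 𝓓).comap b) (F v) = Ideal.span {T} ∧
      stalkIdeal F.ker (F v) = Ideal.ofList xs := by
  obtain ⟨U, s, t, C, hCle, hC, x, hvU, hm, hs, htU, hx1, hx2, hx3, hIC⟩ := exists_local hF hb h𝓓 hV v hj
  refine ⟨(M.presheaf.germ C (F v) hm).hom ((b.appLE U.1 C hCle).hom t),
    List.ofFn fun i => (M.presheaf.germ C (F v) hm).hom (x i), ?_, by simp, ?_, ?_⟩
  · let := M.presheaf.algebra_section_stalk ⟨F v, hm⟩
    have := hC.isLocalization_stalk ⟨F v, hm⟩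
    have h2 := hx2.of_isLocalization (M.presheaf.stalk (F v)) (hC.primeIdealOf ⟨F v, hm⟩).asIdeal.primeCompl
    rw [List.map_cons, List.map_ofFn] at h2
    exact h2
  · rw [stalkIdeal_eq _ ⟨C, hC⟩ hm, hIC, Ideal.map_span, Set.image_singleton]
  · rw [← CartierStalk.ker_stalkMap]
    subst hF
    have hofl : Ideal.ofList (List.ofFn fun i => (M.presheaf.germ C (F v) hm).hom (x i)) =
        Ideal.span (Set.range fun i => (M.presheaf.germ C (F v) hm).hom (x i)) := by
      unfold Ideal.ofList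
      congr 1
      ext y
      simp [List.mem_ofFn]
    rw [hofl]
    ext g
    rw [RingHom.mem_ker]
    refine ker_eq_span (b.appLE U.1 C hCle).hom (M.presheaf.germ C (F v) hm).hom
      (W.presheaf.germ U.1 (b (F v)) (hCle hm)).hom (b.stalkMap (F v)).hom (F.stalkMap v).hom ?_
      (fun a => (stalkMap_germ_app b U.1 C hCle (F v) hm a).symm) s t x
      (stalkMap_comp_eq_zero_iff v U (hCle hm) s hs) ?_ hx1 hx3 g
    · intro g
      let := M.presheaf.algebra_section_stalk ⟨F v, hm⟩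
      have := hC.isLocalization_stalk ⟨F v, hm⟩
      obtain ⟨⟨β, σ⟩, hβ⟩ := IsLocalization.surj (hC.primeIdealOf ⟨F v, hm⟩).asIdeal.primeCompl g
      exact ⟨β, _, IsLocalization.map_units (M.presheaf.stalk (F v)) σ, hβ⟩
    · rw [stalkMap_germ_app b U.1 C hCle (F v) hm t]
      have h1 : (F.stalkMap v).hom ((b.stalkMap (F v)).hom ((W.presheaf.germ U.1 (b (F v)) (hCle hm)).hom t)) =
          ((F ≫ b).stalkMap v).hom ((W.presheaf.germ U.1 ((F ≫ b) v) hvU).hom t) := by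
        rw [Scheme.Hom.stalkMap_comp]; rfl
      rw [h1]
      have h3 : (𝓓.comap (F ≫ b)).ideal ⟨(F ≫ b) ⁻¹ᵁ U.1, U.2.preimage (F ≫ b)⟩ =
          Ideal.span {((F ≫ b).appLE U.1 ((F ≫ b) ⁻¹ᵁ U.1) le_rfl).hom t} := by
        rw [ideal_comap 𝓓 (F ≫ b) U ⟨(F ≫ b) ⁻¹ᵁ U.1, U.2.preimage (F ≫ b)⟩ le_rfl, htU, Ideal.map_span,
          Set.image_singleton]
      have h4 := mem_nonZeroDivisors_of_ideal_eq_span hV _ _ h3
      have h5 := Groth.Agent.Divis.BlowChart.germ_mem_nonZeroDivisors (U.2.preimage (F ≫ b)) h4 v hvU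
      have h6 := stalkMap_germ_app (F ≫ b) U.1 ((F ≫ b) ⁻¹ᵁ U.1) le_rfl v hvU t
      rw [← h6]
      exact h5

/-- A blow-up is an isomorphism on local rings off the centre. -/
theorem isIso_stalkMap {𝓘 : W.IdealSheafData} (hb : IsBlowUp b 𝓘) (m : M) (hm : b m ∉ 𝓘.support) :
    IsIso (b.stalkMap m) := by
  have h1 := BlowUpFormal.isIso_morphismRestrict_compl_support hb 𝓘.support.compl disjoint_compl_left
  have h2 : IsIso ((b ∣_ 𝓘.support.compl).stalkMap ⟨m, hm⟩) := inferInstance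
  exact ((MorphismProperty.isomorphisms CommRingCat).arrow_mk_iso_iff
    (morphismRestrictStalkMap b 𝓘.support.compl ⟨m, hm⟩)).mp h2

theorem regAtLen_of_notMem [IsClosedImmersion F] (hF : F ≫ b = j) (hb : IsBlowUp b (j.ker ⊔ 𝓓))
    [IsLocallyNoetherian M] {d : ℕ} (v : V) (hj : RegAtLen j.ker d (j v))
    (hv : b (F v) ∉ (j.ker ⊔ 𝓓).support) : RegAtLen F.ker d (F v) := by
  subst hF
  have := isIso_stalkMap hb (F v) hv
  have hbij : Function.Bijective (b.stalkMap (F v)).hom := ConcreteCategory.bijective_of_isIso (b.stalkMap (F v))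
  obtain ⟨rs, hrs, hl, hI⟩ : ∃ rs : List (W.presheaf.stalk (b (F v))),
      IsWeaklyRegular (W.presheaf.stalk (b (F v))) rs ∧ rs.length = d ∧
      ∀ c, (F.stalkMap v).hom ((b.stalkMap (F v)).hom c) = 0 ↔ c ∈ Ideal.ofList rs := by
    obtain ⟨U, hU, rs, hrs, hl, hI⟩ := hj
    subst hl
    have hU' : b (F v) ∈ U.1 := hU
    have hs : (F ≫ b).ker.ideal U = Ideal.span (Set.range rs.get) := by
      rw [hI, Groth.Agent.Sga67.KosImm.Chart.ofList_eq_span]
    let := W.presheaf.algebra_section_stalk ⟨b (F v), hU'⟩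
    have := U.2.isLocalization_stalk ⟨b (F v), hU'⟩
    refine ⟨rs.map (W.presheaf.germ U.1 (b (F v)) hU').hom,
      hrs.of_isLocalization (W.presheaf.stalk (b (F v))) (U.2.primeIdealOf ⟨b (F v), hU'⟩).asIdeal.primeCompl,
      by rw [List.length_map], fun c => ?_⟩
    rw [stalkMap_comp_eq_zero_iff v U hU' rs.get hs c, ← Ideal.map_ofList,
      Groth.Agent.Sga67.KosImm.Chart.ofList_eq_span, Ideal.map_span, ← Set.range_comp]
    rfl
  rw [regAtLen_iff_stalk]
  refine ⟨rs.map (b.stalkMap (F v)).hom, isWeaklyRegular_map_of_flat _ (RingHom.Flat.of_bijective hbij) hrs,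
    by rw [List.length_map, hl], ?_⟩
  rw [← CartierStalk.ker_stalkMap, ← Ideal.map_ofList]
  ext g
  obtain ⟨c, rfl⟩ := hbij.2 g
  rw [RingHom.mem_ker, hI c]
  constructor
  · exact fun h => Ideal.mem_map_of_mem _ h
  · intro h
    obtain ⟨c', hc', hcc⟩ := (Ideal.mem_map_iff_of_surjective _ hbij.2).1 h
    rwa [hbij.1 hcc] at hc'

/-- **The lift is regular.** -/
theorem regAtLen_lift [IsClosedImmersion F] (hF : F ≫ b = j) (hb : IsBlowUp b (j.ker ⊔ 𝓓))
    (h𝓓 : IsEffCartierIdeal 𝓓) (hV : IsEffCartierIdeal (𝓓.comap j)) [IsLocallyNoetherian W] {d : ℕ} (v : V)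
    (hj : RegAtLen j.ker d (j v)) : RegAtLen F.ker d (F v) := by
  have : IsLocallyNoetherian M := Groth.Agent.Ega4dB.BlowFT.isLocallyNoetherian_of_isBlowUp hb
  by_cases hv : b (F v) ∈ (j.ker ⊔ 𝓓).support
  swap
  · exact regAtLen_of_notMem hF hb v hj hv
  obtain ⟨T, xs, h1, h2, h3, h4⟩ := exists_seq hF hb h𝓓 hV v hj
  rw [regAtLen_iff_stalk]
  refine ⟨xs, isWeaklyRegular_of_cons T xs h1 ?_ ?_, h2, h4⟩
  · have h5 : F v ∈ ((j.ker ⊔ 𝓓).comap b).support := by
      rw [Scheme.IdealSheafData.support_comap]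
      exact hv
    rw [mem_support_iff_stalkIdeal_ne_top, h3] at h5
    rw [IsLocalRing.mem_maximalIdeal, mem_nonunits_iff]
    intro hu
    exact h5 (Ideal.span_singleton_eq_top.2 hu)
  · intro x hx
    have h5 : x ∈ stalkIdeal F.ker (F v) := by
      rw [h4]; exact Ideal.subset_span hx
    rw [← CartierStalk.ker_stalkMap] at h5
    exact IsLocalRing.le_maximalIdeal (RingHom.ker_ne_top _) h5

/-- **The lift is a regular closed immersion of codimension `d`.** -/
theorem isRegular_and_rank_lift [IsLocallyNoetherian W] {d : ℕ} (hj : Mor2.IsRegularClosedImmersion j)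
    (hd : FlatMod.IsFinLocFreeOfRank d (Omega.conormal j)) (h𝓓 : IsEffCartierIdeal 𝓓)
    (hV : IsEffCartierIdeal (𝓓.comap j)) (hb : IsBlowUp b (j.ker ⊔ 𝓓)) [IsClosedImmersion F]
    (hF : F ≫ b = j) :
    Mor2.IsRegularClosedImmersion F ∧ FlatMod.IsFinLocFreeOfRank d (Omega.conormal F) := by
  rw [isRegular_and_rank_iff]
  intro v
  exact regAtLen_lift hF hb h𝓓 hV v ((isRegular_and_rank_iff j d).1 ⟨hj, hd⟩ v)

/-- Variant of `exists_seq` at a point equal to `F v`. -/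
theorem exists_seq' [IsClosedImmersion F] (hF : F ≫ b = j) (hb : IsBlowUp b (j.ker ⊔ 𝓓))
    (h𝓓 : IsEffCartierIdeal 𝓓) (hV : IsEffCartierIdeal (𝓓.comap j)) {d : ℕ} (v : V)
    (hj : RegAtLen j.ker d (j v)) (m : M) (hm : m = F v) :
    ∃ (T : M.presheaf.stalk m) (xs : List (M.presheaf.stalk m)),
      IsWeaklyRegular (M.presheaf.stalk m) (T :: xs) ∧ xs.length = d ∧
      stalkIdeal ((j.ker ⊔ 𝓓).comap b) m = Ideal.span {T} ∧
      stalkIdeal F.ker m = Ideal.ofList xs := by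
  subst hm
  exact exists_seq hF hb h𝓓 hV v hj

/-- **The restriction of the lift to the exceptional divisor is a regular closed immersion of codimension `d`.** -/
theorem isRegular_and_rank_exceptional [IsLocallyNoetherian W] {d : ℕ} (hj : Mor2.IsRegularClosedImmersion j)
    (hd : FlatMod.IsFinLocFreeOfRank d (Omega.conormal j)) (h𝓓 : IsEffCartierIdeal 𝓓)
    (hV : IsEffCartierIdeal (𝓓.comap j)) (hb : IsBlowUp b (j.ker ⊔ 𝓓)) [IsClosedImmersion F]
    (hF : F ≫ b = j) {E Z : Scheme.{u}} {iE : E ⟶ M} [IsClosedImmersion iE]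
    (hE : iE.ker = (j.ker ⊔ 𝓓).comap b) {s : Z ⟶ E} {k : Z ⟶ V} (hsq : IsPullback s k iE F) :
    Mor2.IsRegularClosedImmersion s ∧ FlatMod.IsFinLocFreeOfRank d (Omega.conormal s) := by
  have : IsClosedImmersion s := MorphismProperty.of_isPullback hsq.flip inferInstance
  have : IsLocallyNoetherian M := Groth.Agent.Ega4dB.BlowFT.isLocallyNoetherian_of_isBlowUp hb
  have : IsLocallyNoetherian E := LocallyOfFiniteType.isLocallyNoetherian iE
  rw [isRegular_and_rank_iff]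
  intro z
  have hsk : s.ker = F.ker.comap iE := by
    have h1 : hsq.isoPullback.hom ≫ pullback.fst iE F = s := by simp
    rw [← h1, Scheme.Hom.ker_comp_of_isIso, Scheme.IdealSheafData.ker_fst_of_isClosedImmersion]
  have hz : iE (s z) = F (k z) := by
    rw [← Scheme.Hom.comp_apply, hsq.w, Scheme.Hom.comp_apply]
  obtain ⟨T, xs, h1, h2, h3, h4⟩ := exists_seq' hF hb h𝓓 hV (k z)
    ((isRegular_and_rank_iff j d).1 ⟨hj, hd⟩ (k z)) (iE (s z)) hz
  rw [regAtLen_iff_stalk, hsk, CartierStalk.stalkIdeal_comap, h4, Ideal.map_ofList]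
  have hsurj : Function.Surjective (iE.stalkMap (s z)).hom := iE.stalkMap_surjective (s z)
  have hker : RingHom.ker (iE.stalkMap (s z)).hom = Ideal.ofList [T] := by
    rw [CartierStalk.ker_stalkMap, hE, h3, Ideal.ofList_singleton]
  have h5 : IsWeaklyRegular _ ([T] ++ xs) := h1
  rw [isWeaklyRegular_append_of_surjective _ hsurj [T] xs hker] at h5
  exact ⟨_, h5.2, by rw [List.length_map, h2], rfl⟩

end Main

end Groth.Agent.Krr.H501.LiftReg
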