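import Groth.Agent.Krr.H501.RegLen
import Groth.Agent.Divis.CartierStalk

/-!
# Stalk criterion for `RegAtLen`
-/

set_option autoImplicit false
universe u

open CategoryTheory AlgebraicGeometry Limits
open RingTheory.Sequence

namespace Groth.Agent.Krr.H501.StalkLen

open Groth.Agent.Divis.IdealComap Groth.Agent.Divis.RegImm Groth.Agent.Divis.RegStalk
open Groth.Agent.Krr.H501.RegLen Groth.Agent.Divis.CartierBasic Groth.Agent.Divis.RegSpread

variable {X Y Z : Scheme.{u}}

theorem RegAtLen.exists_stalk {I : X.IdealSheafData} {d : ℕ} {x : X} (h : RegAtLen I d x) :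
    ∃ rs : List (X.presheaf.stalk x), IsWeaklyRegular (X.presheaf.stalk x) rs ∧ rs.length = d ∧
      stalkIdeal I x = Ideal.ofList rs := by
  obtain ⟨V, hxV, rs, hrs, hl, hI⟩ := h
  let := X.presheaf.algebra_section_stalk ⟨x, hxV⟩
  have := V.2.isLocalization_stalk ⟨x, hxV⟩
  refine ⟨rs.map (X.presheaf.germ V.1 x hxV).hom,
    hrs.of_isLocalization (X.presheaf.stalk x) (V.2.primeIdealOf ⟨x, hxV⟩).asIdeal.primeCompl,
    by rw [List.length_map, hl], ?_⟩
  rw [stalkIdeal_eq I V hxV, hI, Ideal.map_ofList]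

/-- On a locally Noetherian scheme, an ideal sheaf is generated by a weakly regular sequence of length `d` near
`x` iff its stalk at `x` is. -/
theorem regAtLen_iff_stalk [IsLocallyNoetherian X] (I : X.IdealSheafData) (d : ℕ) (x : X) :
    RegAtLen I d x ↔ ∃ rs : List (X.presheaf.stalk x), IsWeaklyRegular (X.presheaf.stalk x) rs ∧ rs.length = d ∧
      stalkIdeal I x = Ideal.ofList rs := by
  refine ⟨RegAtLen.exists_stalk, ?_⟩
  rintro ⟨rs, hrs, hl, hI⟩
  obtain ⟨V, hxV, as, rfl⟩ := exists_list_germ x rs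
  have : IsNoetherianRing Γ(X, V.1) := IsLocallyNoetherian.component_noetherian V
  let := X.presheaf.algebra_section_stalk ⟨x, hxV⟩
  have := V.2.isLocalization_stalk ⟨x, hxV⟩
  obtain ⟨f, hf, Hf⟩ := exists_isWeaklyRegular_of_atPrime' (V.2.primeIdealOf ⟨x, hxV⟩).asIdeal
    (X.presheaf.stalk x) as hrs
  obtain ⟨g, hg, Hg⟩ := exists_map_eq_of_atPrime (V.2.primeIdealOf ⟨x, hxV⟩).asIdeal
    (X.presheaf.stalk x) (I.ideal V) (Ideal.ofList as) (IsNoetherian.noetherian _) (IsNoetherian.noetherian _)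
    (by rw [Ideal.map_ofList]; exact (stalkIdeal_eq I V hxV).symm.trans hI)
  have hfg : f * g ∈ (V.2.primeIdealOf ⟨x, hxV⟩).asIdeal.primeCompl := mul_mem hf hg
  have hu : IsUnit ((X.presheaf.germ V.1 x hxV).hom (f * g)) :=
    IsLocalization.map_units (X.presheaf.stalk x)
      (⟨f * g, hfg⟩ : (V.2.primeIdealOf ⟨x, hxV⟩).asIdeal.primeCompl)
  have hxfg : x ∈ X.basicOpen (f * g) := (X.mem_basicOpen _ x hxV).mpr hu
  have hres : IsUnit ((X.presheaf.map (homOfLE (X.basicOpen_le (f * g))).op).hom (f * g)) :=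
    RingedSpace.isUnit_res_basicOpen _ (f * g)
  rw [map_mul] at hres
  refine ⟨X.affineBasicOpen (f * g), hxfg,
    as.map (X.presheaf.map (homOfLE (X.basicOpen_le (f * g))).op).hom, ?_, ?_, ?_⟩
  · have hflat := flat_res V.2 (X.affineBasicOpen (f * g)).2 (X.basicOpen_le (f * g))
    let := (X.presheaf.map (homOfLE (X.basicOpen_le (f * g))).op).hom.toAlgebra
    have : Module.Flat Γ(X, V.1) Γ(X, X.basicOpen (f * g)) := hflat
    exact Hf _ (isUnit_of_mul_isUnit_left hres)
  · rw [List.length_map] at hl ⊢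
    exact hl
  · rw [← I.map_ideal (U := X.affineBasicOpen (f * g)) (V := V) (X.basicOpen_le (f * g))]
    refine (Hg _ (X.presheaf.map (homOfLE (X.basicOpen_le (f * g))).op).hom
      (isUnit_of_mul_isUnit_right hres)).trans ?_
    rw [Ideal.map_ofList]
    rfl

/-- A weakly regular sequence `T :: xs` in the maximal ideal of a Noetherian local ring: `xs` is weakly regular, also
modulo `T`. -/
theorem isWeaklyRegular_of_cons {R : Type u} [CommRing R] [IsLocalRing R] [IsNoetherianRing R] (T : R)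
    (xs : List R) (h : IsWeaklyRegular R (T :: xs)) (hT : T ∈ IsLocalRing.maximalIdeal R)
    (hxs : ∀ x ∈ xs, x ∈ IsLocalRing.maximalIdeal R) :
    IsWeaklyRegular R xs := by
  have h1 : IsWeaklyRegular R (xs ++ [T]) := by
    refine IsLocalRing.isWeaklyRegular_of_perm_of_subset_maximalIdeal h ?_ ?_
    · exact (List.perm_append_singleton T xs).symm
    · intro r hr
      rcases List.mem_cons.1 hr with rfl | hr
      · exact hT
      · exact hxs r hr
  exact ((isWeaklyRegular_append_iff R xs [T]).1 h1).1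

end Groth.Agent.Krr.H501.StalkLen
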